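import Groth.Agent.Lib.Helper3.FinQuot.AffineRep
import Groth.Agent.Lib.Helper3.EtaleDeg.KernelPair

set_option autoImplicit false
set_option linter.unusedSectionVars false
universe u

open CategoryTheory CategoryTheory.Limits AlgebraicGeometry TensorProduct
open AlgSp

namespace Groth.Agent.H3.FinQuot

open Groth.Agent.H5.AlgSp

variable {S : Scheme.{u}}

/-- points of a pullback square of schemes -/
lemma exists_preimage_of_isPullback {P X Y Z : Scheme.{u}} {fst : P ⟶ X} {snd : P ⟶ Y}
    {f : X ⟶ Z} {g : Y ⟶ Z} (h : IsPullback fst snd f g) (x : X) (y : Y) (hxy : f x = g y) :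
    ∃ z : P, fst z = x ∧ snd z = y := by
  obtain ⟨q, hq1, hq2⟩ := Scheme.Pullback.exists_preimage_pullback (f := f) (g := g) x y hxy
  refine ⟨h.isoPullback.inv q, ?_, ?_⟩
  · rw [← Scheme.Hom.comp_apply, h.isoPullback_inv_fst, hq1]
  · rw [← Scheme.Hom.comp_apply, h.isoPullback_inv_snd, hq2]

/-- the principal open `D(g)` of `Spec A`, over `S` -/
noncomputable abbrev Ug {A : CommRingCat.{u}} (str : Spec A ⟶ S) (g : A) : Over S :=
  Over.mk (Spec.map (CommRingCat.ofHom (algebraMap A (Localization.Away g))) ≫ str)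

/-- the inclusion of the principal open `D(g)` -/
noncomputable abbrev jg {A : CommRingCat.{u}} (str : Spec A ⟶ S) (g : A) :
    Ug str g ⟶ Over.mk str :=
  Over.homMk (Spec.map (CommRingCat.ofHom (algebraMap A (Localization.Away g)))) rfl

section Char

variable {X : Sp S} {A : CommRingCat.{u}} (str : Spec A ⟶ S)
  (p : (yon S).obj (Over.mk str) ⟶ X) {R : Over S} (s t : R ⟶ Over.mk str)
  (sq : IsPullback ((yon S).map t) ((yon S).map s) p p) (g : A)
  {Rg : Over S} (π₁ : Rg ⟶ R) (π₂ : Rg ⟶ Ug str g) (hpb : IsPullback π₁ π₂ s (jg str g))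
  {Bg : CommRingCat.{u}} (ig : Rg.left ≅ Spec Bg)
  (σ : CommRingCat.of (Localization.Away g) ⟶ Bg) (τ : A ⟶ Bg)
  (hσ : Spec.map σ = ig.inv ≫ π₂.left) (hτ : Spec.map τ = ig.inv ≫ π₁.left ≫ t.left)

include sq hpb hσ hτ in
/-- the orbit of a point of `D(g)` lies in `D(g)` iff `t^♯ g` does not vanish on its fibre -/
lemma forall_notMem_iff_saturated (qg : PrimeSpectrum (Localization.Away g)) :
    (∀ r' : PrimeSpectrum Bg, PrimeSpectrum.comap σ.hom r' = qg → τ.hom g ∉ r'.asIdeal) ↔
      (∀ u' : PrimeSpectrum A, Points.ofPt p (specPt u') =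
        Points.ofPt p (specPt (PrimeSpectrum.comap (algebraMap A (Localization.Away g)) qg)) →
          g ∉ u'.asIdeal) := by
  have hpb' : IsPullback π₁.left π₂.left s.left (jg str g).left := hpb.map (Over.forget S)
  constructor
  · intro h u' hu'
    obtain ⟨r, hr1, hr2⟩ := (ofPt_eq_ofPt_iff sq _ _).1 hu'
    -- lift `r` to `Rg`
    obtain ⟨rg, hrg1, hrg2⟩ := exists_preimage_of_isPullback hpb' r
      (specPt (A := CommRingCat.of (Localization.Away g)) qg) (by rw [hr2]; rfl)
    have h1 := h (primePt (ig.hom rg)) (by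
      have e1 : specPt (PrimeSpectrum.comap σ.hom (primePt (ig.hom rg))) =
          (Spec.map σ) (ig.hom rg) := rfl
      rw [hσ, Scheme.Hom.comp_apply, ← Scheme.Hom.comp_apply ig.hom ig.inv, Iso.hom_inv_id] at e1
      exact e1.trans hrg2)
    intro hmem
    apply h1
    have e2 : specPt (PrimeSpectrum.comap τ.hom (primePt (ig.hom rg))) =
        (Spec.map τ) (ig.hom rg) := rfl
    rw [hτ, Scheme.Hom.comp_apply, Scheme.Hom.comp_apply,
      ← Scheme.Hom.comp_apply ig.hom ig.inv, Iso.hom_inv_id] at e2
    have e3 : PrimeSpectrum.comap τ.hom (primePt (ig.hom rg)) = u' := by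
      have : specPt (PrimeSpectrum.comap τ.hom (primePt (ig.hom rg))) = specPt u' := by
        rw [e2]
        change t.left (π₁.left rg) = _
        rw [hrg1, hr1]
      exact this
    have : g ∈ (PrimeSpectrum.comap τ.hom (primePt (ig.hom rg))).asIdeal := by
      rw [e3]; exact hmem
    exact this
  · intro h r' hr' hmem
    let rg : ↥Rg.left := ig.inv (specPt r')
    have e1 : specPt (PrimeSpectrum.comap σ.hom r') = π₂.left rg := by
      change (Spec.map σ) (specPt r') = _
      rw [hσ]
      rfl
    have e2 : specPt (PrimeSpectrum.comap τ.hom r') = t.left (π₁.left rg) := by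
      change (Spec.map τ) (specPt r') = _
      rw [hτ]
      rfl
    have e3 : s.left (π₁.left rg) = specPt
        (PrimeSpectrum.comap (algebraMap A (Localization.Away g)) qg) := by
      rw [← Scheme.Hom.comp_apply, hpb'.w, Scheme.Hom.comp_apply, ← e1, hr']
      rfl
    have h1 := h (PrimeSpectrum.comap τ.hom r') (by
      rw [e2, ← e3]
      exact (ofPt_eq_ofPt_iff sq _ _).2 ⟨π₁.left rg, rfl, rfl⟩)
    exact h1 hmem

end Char

section Core

variable {X : Sp S} {A : CommRingCat.{u}} (str : Spec A ⟶ S)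
  (p : (yon S).obj (Over.mk str) ⟶ X) (hp : RepWith @Etale p) {R : Over S}
  (s t : R ⟶ Over.mk str)
  (sq : IsPullback ((yon S).map t) ((yon S).map s) p p) (g : A)
  {Rg : Over S} (π₁ : Rg ⟶ R) (π₂ : Rg ⟶ Ug str g) (hpb : IsPullback π₁ π₂ s (jg str g))

include hp sq hpb in
/-- **Shrinking to a saturated affine open by a norm**: if `s` is finite over the principal open
`D(g)` of an affine étale chart `Spec A`, then every point of `Spec A` whose whole orbit lies in
`D(g)` maps into the schematic locus. -/
theorem mem_schematicSet_of_finite_over_basicOpen (hfin : IsFinite π₂.left)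
    (u : PrimeSpectrum A)
    (hu : ∀ u' : PrimeSpectrum A, Points.ofPt p (specPt u') = Points.ofPt p (specPt u) →
      g ∉ u'.asIdeal) :
    Points.ofPt p (specPt u) ∈ schematicSet X := by
  classical
  have hpb' : IsPullback π₁.left π₂.left s.left (jg str g).left := hpb.map (Over.forget S)
  have hse : Etale s.left := hp.property p _ s sq
  have hπ₂e : Etale π₂.left := MorphismProperty.of_isPullback (P := @Etale) hpb' hse
  have hjo : IsOpenImmersion (jg str g).left := by
    change IsOpenImmersion (Spec.map (CommRingCat.ofHom (algebraMap A (Localization.Away g))))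
    infer_instance
  have hπ₁o : IsOpenImmersion π₁.left :=
    MorphismProperty.of_isPullback (P := @IsOpenImmersion) hpb'.flip hjo
  let Ag : CommRingCat.{u} := CommRingCat.of (Localization.Away g)
  let jA : A ⟶ Ag := CommRingCat.ofHom (algebraMap A (Localization.Away g))
  have hUgaff : IsAffine (Ug str g).left := (inferInstance : IsAffine (Spec Ag))
  have hRgaff : IsAffine Rg.left := isAffine_of_isAffineHom π₂.left
  let Bg : CommRingCat.{u} := Γ(Rg.left, ⊤)
  let ig : Rg.left ≅ Spec Bg := Rg.left.isoSpec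
  let σ : Ag ⟶ Bg := Spec.preimage (ig.inv ≫ π₂.left)
  let τ : A ⟶ Bg := Spec.preimage (ig.inv ≫ π₁.left ≫ t.left)
  have hσ : Spec.map σ = ig.inv ≫ π₂.left := Spec.map_preimage _
  have hτ : Spec.map τ = ig.inv ≫ π₁.left ≫ t.left := Spec.map_preimage _
  have : IsFinite (Spec.map σ) := by rw [hσ]; infer_instance
  have : Etale (Spec.map σ) := by rw [hσ]; infer_instance
  obtain ⟨hσfin, hMf, hMp⟩ := finite_projective_of_finite_etale σ
  obtain ⟨m, f₀, g₀, -, -, hfg⟩ := Module.Finite.exists_comp_eq_id_of_projective Ag (Via σ.hom)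
  let N : Ag := anorm f₀ g₀ (toVia σ.hom (τ.hom g))
  obtain ⟨b', hb'⟩ := exists_mul_eq_anorm hfg (toVia σ.hom (τ.hom g))
  -- characterization of `D(N)`
  have hchar : ∀ qg : PrimeSpectrum Ag, N ∉ qg.asIdeal ↔
      (∀ u' : PrimeSpectrum A, Points.ofPt p (specPt u') =
        Points.ofPt p (specPt (PrimeSpectrum.comap (algebraMap A (Localization.Away g)) qg)) →
          g ∉ u'.asIdeal) := by
    intro qg
    rw [← forall_notMem_iff_saturated str p s t sq g π₁ π₂ hpb ig σ τ hσ hτ qg]
    have := anorm_notMem_iff hfg (toVia σ.hom (τ.hom g)) qg.asIdeal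
    rw [this]
    constructor
    · intro h r hr
      exact h r.asIdeal r.2 (by rw [← hr]; rfl)
    · intro h r hr hrq
      exact h ⟨r, hr⟩ (PrimeSpectrum.ext hrq)
  -- the second localization
  let s'' : Localization.Away N →+* Localization.Away (σ.hom N) :=
    IsLocalization.Away.map (Localization.Away N) (Localization.Away (σ.hom N)) σ.hom N
  have hs'' : ∀ α, s'' (algebraMap Ag (Localization.Away N) α) =
      algebraMap Bg (Localization.Away (σ.hom N)) (σ.hom α) := fun α => IsLocalization.map_eq _ α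
  have hs''fin : s''.Finite := RingHom.localization_away_map_finite _ _ _ _ σ.hom N hσfin
  have hunitN : IsUnit (algebraMap Bg (Localization.Away (σ.hom N)) (σ.hom N)) :=
    IsLocalization.Away.algebraMap_isUnit _
  have hunit1 : IsUnit (algebraMap Bg (Localization.Away (σ.hom N)) (τ.hom g)) := by
    have h1 : τ.hom g * (toVia σ.hom).symm b' = σ.hom N := by
      have := congrArg (toVia σ.hom).symm hb'
      rw [map_mul, RingEquiv.symm_apply_apply] at this
      exact this
    refine isUnit_of_dvd_unit ?_ hunitN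
    rw [← h1, map_mul]
    exact dvd_mul_right _ _
  let t₁ : Ag →+* Localization.Away (σ.hom N) :=
    IsLocalization.Away.lift g
      (g := (algebraMap Bg (Localization.Away (σ.hom N))).comp τ.hom) hunit1
  have ht₁ : ∀ α : A, t₁ (algebraMap A (Localization.Away g) α) =
      algebraMap Bg (Localization.Away (σ.hom N)) (τ.hom α) := fun α =>
    IsLocalization.Away.lift_eq g hunit1 α
  have hunit2 : IsUnit (t₁ N) := by
    by_contra hnu
    obtain ⟨M, hM, hNM⟩ := exists_max_ideal_of_mem_nonunits hnu
    let r' : PrimeSpectrum Bg :=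
      ⟨M.comap (algebraMap Bg (Localization.Away (σ.hom N))), inferInstance⟩
    have hσN : σ.hom N ∉ r'.asIdeal := fun hmem =>
      hM.ne_top (Ideal.eq_top_of_isUnit_mem _ hmem hunitN)
    let q1 : PrimeSpectrum Ag := PrimeSpectrum.comap σ.hom r'
    let q2 : PrimeSpectrum Ag := ⟨M.comap t₁, inferInstance⟩
    have hq1 : N ∉ q1.asIdeal := hσN
    have hq2 : N ∈ q2.asIdeal := hNM
    have e2 : PrimeSpectrum.comap (algebraMap A (Localization.Away g)) q2 =
        PrimeSpectrum.comap τ.hom r' := by
      ext a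
      change t₁ (algebraMap A (Localization.Away g) a) ∈ M ↔
        algebraMap Bg (Localization.Away (σ.hom N)) (τ.hom a) ∈ M
      rw [ht₁]
    let rg : ↥Rg.left := ig.inv (specPt r')
    have e3 : specPt (PrimeSpectrum.comap τ.hom r') = t.left (π₁.left rg) := by
      change (Spec.map τ) (specPt r') = _
      rw [hτ]
      rfl
    have e4 : specPt (PrimeSpectrum.comap (algebraMap A (Localization.Away g)) q1) =
        s.left (π₁.left rg) := by
      rw [← Scheme.Hom.comp_apply π₁.left s.left, hpb'.w, Scheme.Hom.comp_apply]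
      change (Spec.map jA) ((Spec.map σ) (specPt r')) = _
      rw [hσ]
      rfl
    have e5 : Points.ofPt p
        (specPt (PrimeSpectrum.comap (algebraMap A (Localization.Away g)) q2)) =
        Points.ofPt p (specPt (PrimeSpectrum.comap (algebraMap A (Localization.Away g)) q1)) := by
      rw [e2, e3, e4]
      exact (ofPt_eq_ofPt_iff sq _ _).2 ⟨π₁.left rg, rfl, rfl⟩
    have : N ∉ q2.asIdeal := by
      rw [hchar q2]
      intro u' hu'
      exact (hchar q1).1 hq1 u' (hu'.trans e5)
    exact this hq2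
  let t'' : Localization.Away N →+* Localization.Away (σ.hom N) :=
    IsLocalization.Away.lift N (g := t₁) hunit2
  have ht'' : ∀ α : Ag, t'' (algebraMap Ag (Localization.Away N) α) = t₁ α := fun α =>
    IsLocalization.Away.lift_eq N hunit2 α
  -- geometry
  let A' : CommRingCat.{u} := CommRingCat.of (Localization.Away N)
  let B' : CommRingCat.{u} := CommRingCat.of (Localization.Away (σ.hom N))
  let jA' : Ag ⟶ A' := CommRingCat.ofHom (algebraMap Ag (Localization.Away N))
  let jB' : Bg ⟶ B' := CommRingCat.ofHom (algebraMap Bg (Localization.Away (σ.hom N)))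
  let s₀' : A' ⟶ B' := CommRingCat.ofHom s''
  let t₀' : A' ⟶ B' := CommRingCat.ofHom t''
  have hjs : jA' ≫ s₀' = σ ≫ jB' := by
    ext α
    exact hs'' α
  have hjt : jA ≫ jA' ≫ t₀' = τ ≫ jB' := by
    ext α
    change t'' (algebraMap Ag (Localization.Away N) (algebraMap A (Localization.Away g) α)) = _
    rw [ht'', ht₁]
    rfl
  have hRs : s.left ≫ str = R.hom := Over.w s
  have hRt : t.left ≫ str = R.hom := Over.w t
  have hw : π₁.left ≫ s.left = π₂.left ≫ Spec.map jA := hpb'.w
  let str' : Spec A' ⟶ S := Spec.map jA' ≫ Spec.map jA ≫ str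
  let U' : Over S := Over.mk str'
  let jU : U' ⟶ Over.mk str := Over.homMk (Spec.map jA' ≫ Spec.map jA) (by simp [U', str'])
  let R' : Over S := Over.mk (Spec.map jB' ≫ ig.inv ≫ π₁.left ≫ R.hom)
  let jR : R' ⟶ R := Over.homMk (Spec.map jB' ≫ ig.inv ≫ π₁.left) (by simp [R'])
  have hsl : (Spec.map jB' ≫ ig.inv ≫ π₁.left) ≫ s.left =
      Spec.map s₀' ≫ Spec.map jA' ≫ Spec.map jA := by
    rw [Category.assoc, Category.assoc, hw, ← Category.assoc ig.inv, ← hσ, ← Spec.map_comp_assoc,
      ← hjs, Spec.map_comp_assoc]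
  have htl : (Spec.map jB' ≫ ig.inv ≫ π₁.left) ≫ t.left =
      Spec.map t₀' ≫ Spec.map jA' ≫ Spec.map jA := by
    rw [Category.assoc, Category.assoc, ← hτ, ← Spec.map_comp, ← hjt, Spec.map_comp,
      Spec.map_comp, Category.assoc]
  let s' : R' ⟶ U' := Over.homMk (Spec.map s₀') (by
    change Spec.map s₀' ≫ Spec.map jA' ≫ Spec.map jA ≫ str = Spec.map jB' ≫ ig.inv ≫ π₁.left ≫ R.hom
    rw [← hRs, ← Category.assoc (Spec.map jA'), ← Category.assoc (Spec.map s₀'), ← hsl]
    simp only [Category.assoc])
  let t' : R' ⟶ U' := Over.homMk (Spec.map t₀') (by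
    change Spec.map t₀' ≫ Spec.map jA' ≫ Spec.map jA ≫ str = Spec.map jB' ≫ ig.inv ≫ π₁.left ≫ R.hom
    rw [← hRt, ← Category.assoc (Spec.map jA'), ← Category.assoc (Spec.map t₀'), ← htl]
    simp only [Category.assoc])
  have hs : jR ≫ s = s' ≫ jU := by
    ext
    exact hsl
  have ht : jR ≫ t = t' ≫ jU := by
    ext
    exact htl
  have hoU : IsOpenImmersion jU.left := by
    change IsOpenImmersion (Spec.map (CommRingCat.ofHom (algebraMap Ag (Localization.Away N))) ≫
      Spec.map (CommRingCat.ofHom (algebraMap A (Localization.Away g))))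
    infer_instance
  have hoR : IsOpenImmersion jR.left := by
    change IsOpenImmersion (Spec.map (CommRingCat.ofHom
      (algebraMap Bg (Localization.Away (σ.hom N)))) ≫ ig.inv ≫ π₁.left)
    infer_instance
  have hrange : ∀ r : ↥R.left, s.left r ∈ Set.range jU.left → r ∈ Set.range jR.left := by
    rintro r ⟨z', hz'⟩
    obtain ⟨rg, hrg1, hrg2⟩ := exists_preimage_of_isPullback hpb' r ((Spec.map jA') z') hz'.symm
    have h1 : specPt (PrimeSpectrum.comap σ.hom (primePt (ig.hom rg))) = (Spec.map jA') z' := by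
      change (Spec.map σ) (ig.hom rg) = _
      rw [hσ, Scheme.Hom.comp_apply, ← Scheme.Hom.comp_apply ig.hom ig.inv, Iso.hom_inv_id]
      exact hrg2
    have h3 : σ.hom N ∉ (primePt (ig.hom rg)).asIdeal := by
      intro hmem
      have h2 : N ∈ (PrimeSpectrum.comap σ.hom (primePt (ig.hom rg))).asIdeal := hmem
      have h2' : N ∈ (primePt (B := Ag) ((Spec.map jA') z')).asIdeal := by
        rw [← h1]; exact h2
      have h2'' : algebraMap Ag (Localization.Away N) N ∈ (primePt z').asIdeal := h2'
      have hu : IsUnit (algebraMap Ag (Localization.Away N) N) :=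
        IsLocalization.Away.algebraMap_isUnit N
      exact (primePt z').2.ne_top (Ideal.eq_top_of_isUnit_mem _ h2'' hu)
    have h4 : primePt (ig.hom rg) ∈ Set.range (PrimeSpectrum.comap
        (algebraMap Bg (Localization.Away (σ.hom N)))) := by
      rw [PrimeSpectrum.localization_away_comap_range _ (σ.hom N)]
      exact h3
    obtain ⟨z'', hz''⟩ := h4
    refine ⟨specPt (A := B') z'', ?_⟩
    change π₁.left (ig.inv ((Spec.map jB') (specPt z''))) = r
    have h5 : (Spec.map jB') (specPt (A := B') z'') = ig.hom rg := hz''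
    rw [h5, ← Scheme.Hom.comp_apply ig.hom ig.inv, Iso.hom_inv_id]
    exact hrg1
  have sq' := isPullback_restrict_saturated p s t sq jU jR s' t' hs ht hrange
  have hpU : RepWith @Etale ((yon S).map jU ≫ p) :=
    MorphismProperty.comp_mem _ _ _ ((repWith_yon_map_iff @Etale jU).2 inferInstance) hp
  have hs'fin : IsFinite s'.left := by
    change IsFinite (Spec.map s₀')
    rw [IsFinite.SpecMap_iff]
    exact hs''fin
  -- the point
  have hug : g ∉ u.asIdeal := hu u rfl
  have h6 : u ∈ Set.range (PrimeSpectrum.comap (algebraMap A (Localization.Away g))) := by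
    rw [PrimeSpectrum.localization_away_comap_range _ g]
    exact hug
  obtain ⟨qg, hqg⟩ := h6
  have hNq : N ∉ qg.asIdeal := by
    rw [hchar qg, hqg]
    exact hu
  have h7 : qg ∈ Set.range (PrimeSpectrum.comap (algebraMap Ag (Localization.Away N))) := by
    rw [PrimeSpectrum.localization_away_comap_range _ N]
    exact hNq
  obtain ⟨z', hz'⟩ := h7
  have h8 := mem_schematicSet_of_kernelPair_finite str' ((yon S).map jU ≫ p) hpU s' t' sq' hs'fin
    (specPt (A := A') z')
  rw [ofPt_yon_map_comp] at h8
  have h9 : jU.left (specPt (A := A') z') = specPt u := by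
    change (Spec.map jA) ((Spec.map jA') (specPt z')) = _
    have : (Spec.map jA') (specPt (A := A') z') = specPt (A := Ag) qg := hz'
    rw [this]
    exact hqg
  rw [h9] at h8
  exact h8

end Core

end Groth.Agent.H3.FinQuot
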