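import Groth.Agent.Lib.Helper3.FinQuot.SpecField
import Groth.Agent.Lib.Helper3.AlgSpProp.HasAt
import Groth.Agent.Lib.Helper3.AlgSpMor.EtaleMono
import Groth.Agent.Lib.Helper5.AlgSp.OpenSubspace
import Groth.Agent.Lib.Helper5.AlgSp.LocalRep
import Groth.Agent.Lib.Helper5.AlgSp.MonoDesc
import Groth.Agent.Lib.Helper5.AlgSp.DiagPres
import Groth.Agent.Lib.Helper5.AlgSp.PointsTop
import Groth.Agent.Lib.Helper5.AlgSp.Points

set_option autoImplicit false
universe u

open CategoryTheory CategoryTheory.Limits AlgebraicGeometry TensorProduct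
open AlgSp

namespace Groth.Agent.H3.FinQuot

open Groth.Agent.H5.AlgSp

variable {S : Scheme.{u}}

/-- A scheme etale over a field is reduced. -/
theorem isReduced_of_etale_field {k : Type u} [Field k] {Z : Scheme.{u}}
    (g : Z ⟶ Spec (CommRingCat.of k)) [Etale g] : IsReduced Z := by
  have : ∀ z : ↥Z, _root_.IsReduced ↥(Z.presheaf.stalk z) := fun z =>
    (Groth.Agent.H3.AlgSpProp.etaleLocalAt_isReduced_stalk g z).2 inferInstance
  exact isReduced_of_isReduced_stalk Z

/-- A scheme etale over a field is discrete. -/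
theorem discreteTopology_of_etale_field {k : Type u} [Field k] {Z : Scheme.{u}}
    (g : Z ⟶ Spec (CommRingCat.of k)) [Etale g] : DiscreteTopology ↥Z := by
  have hart : IsLocallyArtinian (Spec (CommRingCat.of k)) := by
    rw [Scheme.isLocallyArtinianScheme_Spec]
    infer_instance
  have : LocallyQuasiFinite g := locallyQuasiFinite_of_etale g
  have : IsLocallyArtinian Z := IsLocallyArtinian.of_locallyQuasiFinite g
  infer_instance

/-- Every point of a scheme etale over a field lies in an open subscheme which is the spectrum of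
a field. -/
theorem exists_field_chart_of_etale_field {k : Type u} [Field k] {Z : Scheme.{u}}
    (g : Z ⟶ Spec (CommRingCat.of k)) [Etale g] (z : ↥Z) :
    ∃ (L : Type u) (_ : Field L) (c : Spec (CommRingCat.of L) ⟶ Z),
      IsOpenImmersion c ∧ z ∈ Set.range c := by
  have h1 := isReduced_of_etale_field g
  have h2 := discreteTopology_of_etale_field g
  let W : Z.Opens := ⟨{z}, isOpen_discrete _⟩
  have hsub : Subsingleton ↥W := by
    refine ⟨fun a b => Subtype.ext ?_⟩
    rw [Set.mem_singleton_iff.1 a.2, Set.mem_singleton_iff.1 b.2]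
  have hsub' : Subsingleton ↥(W.toScheme) := hsub
  have hne : Nonempty ↥(W.toScheme) := ⟨⟨z, rfl⟩⟩
  have hred : IsReduced W.toScheme := inferInstance
  have hirr : IrreducibleSpace ↥(W.toScheme) := by
    have : PreirreducibleSpace ↥(W.toScheme) := inferInstance
    exact ⟨hne⟩
  have hint : IsIntegral W.toScheme :=
    (isIntegral_iff_irreducibleSpace_and_isReduced _).2 ⟨hirr, hred⟩
  have hF := isField_of_isIntegral_of_subsingleton W.toScheme
  letI : Field ↑Γ(W.toScheme, ⊤) := hF.toField
  refine ⟨↑Γ(W.toScheme, ⊤), inferInstance, W.toScheme.isoSpec.inv ≫ W.ι, inferInstance, ?_⟩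
  refine ⟨W.toScheme.isoSpec.hom ⟨z, rfl⟩, ?_⟩
  rw [← Scheme.Hom.comp_apply, Iso.hom_inv_id_assoc]
  rfl

end Groth.Agent.H3.FinQuot

namespace Groth.Agent.H3.FinQuot

open Groth.Agent.H5.AlgSp

variable {S : Scheme.{u}}

/-- If `p : G ⟶ Q` is locally surjective and `φ : G ⟶ X` has the same kernel pair as `p`, then `φ`
factors through `p` by a monomorphism. -/
theorem exists_mono_factor_of_same_kernelPair {G K Q X : Sp S} {a b : K ⟶ G} (p : G ⟶ Q)
    (φ : G ⟶ X) [Sheaf.IsLocallySurjective p]
    (sq : IsPullback a b p p) (sq' : IsPullback a b φ φ) :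
    ∃ q : Q ⟶ X, Mono q ∧ p ≫ q = φ := by
  obtain ⟨h⟩ := nonempty_isColimit_cofork_of_isLocallySurjective p sq
  let q : Q ⟶ X := Cofork.IsColimit.desc h φ sq'.w
  have hq : p ≫ q = φ := Cofork.IsColimit.π_desc h
  refine ⟨q, ?_, hq⟩
  apply mono_of_yon
  intro T x y hxy
  have h1 := liftSieve_mem p x
  have h2 := liftSieve_mem p y
  apply yon_hom_ext_of_mem_J ((J S).intersection_covering h1 h2)
  rintro T' g ⟨⟨τ₁, hτ₁⟩, ⟨τ₂, hτ₂⟩⟩
  have e : τ₁ ≫ φ = τ₂ ≫ φ := by
    rw [← hq, ← Category.assoc, ← Category.assoc, hτ₁, hτ₂, Category.assoc, Category.assoc, hxy]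
  have e1 : sq'.lift τ₁ τ₂ e ≫ a = τ₁ := sq'.lift_fst _ _ _
  have e2 : sq'.lift τ₁ τ₂ e ≫ b = τ₂ := sq'.lift_snd _ _ _
  rw [← hτ₁, ← hτ₂]
  calc τ₁ ≫ p = (sq'.lift τ₁ τ₂ e ≫ a) ≫ p := by rw [e1]
    _ = (sq'.lift τ₁ τ₂ e ≫ b) ≫ p := by rw [Category.assoc, sq.w, Category.assoc]
    _ = τ₂ ≫ p := by rw [e2]

/-- A morphism from the spectrum of a field whose kernel pair is a scheme finite over the field
factors through a monomorphism from the spectrum of a field. -/
theorem exists_mono_of_finite_kernelPair {X : Sp S} {K : Type u} [Field K]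
    (str : Spec (CommRingCat.of K) ⟶ S) (φ : (yon S).obj (Over.mk str) ⟶ X) {R : Over S}
    (s t : R ⟶ Over.mk str) (sq : IsPullback ((yon S).map t) ((yon S).map s) φ φ)
    [IsFinite s.left] :
    ∃ (k' : Type u) (_ : Field k') (str' : Spec (CommRingCat.of k') ⟶ S)
      (cm : Over.mk str ⟶ Over.mk str') (q : (yon S).obj (Over.mk str') ⟶ X),
      Mono q ∧ (yon S).map cm ≫ q = φ ∧ IsFinite cm.left ∧ Flat cm.left ∧ Surjective cm.left ∧
        LocallyOfFinitePresentation cm.left ∧ IsPullback t s cm cm := by
  have heq : IsEqvRel s t := isEqvRel_of_isPullback φ s t sq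
  obtain ⟨k', hk', str', cm, h1, h2, h3, h4, hpb⟩ := exists_quotient_field str s t heq
  have hpb' : IsPullback ((yon S).map t) ((yon S).map s) ((yon S).map cm) ((yon S).map cm) :=
    hpb.map (yon S)
  have : Sheaf.IsLocallySurjective ((yon S).map cm) :=
    isLocallySurjective_of_repWith _ ((repWith_yon_map_iff _ _).2 h2)
      ((repWith_yon_map_iff _ _).2 h4) ((repWith_yon_map_iff _ _).2 h3)
  obtain ⟨q, hq1, hq2⟩ := exists_mono_factor_of_same_kernelPair ((yon S).map cm) φ hpb' sq
  exact ⟨k', hk', str', cm, q, hq1, hq2, h1, h2, h3, h4, hpb⟩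

end Groth.Agent.H3.FinQuot

namespace Groth.Agent.H3.FinQuot

open Groth.Agent.H5.AlgSp

variable {S : Scheme.{u}}

/-- an etale morphism between spectra of fields is finite -/
theorem isFinite_of_etale_fields {L k : Type u} [Field L] [Field k]
    (g : Spec (CommRingCat.of L) ⟶ Spec (CommRingCat.of k)) [Etale g] : IsFinite g := by
  have hart : IsLocallyArtinian (Spec (CommRingCat.of k)) := by
    rw [Scheme.isLocallyArtinianScheme_Spec]
    infer_instance
  have : LocallyQuasiFinite g := locallyQuasiFinite_of_etale g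
  have : QuasiCompact g := quasiCompact_of_field g
  exact IsFinite.of_locallyQuasiFinite g

/-- the jointly monic pair of an equivalence relation gives a monomorphism of schemes -/
theorem mono_lift_of_isEqvRel {R U : Over S} {s t : R ⟶ U} (h : IsEqvRel s t) {V : Scheme.{u}}
    (g : U.left ⟶ V) (w : t.left ≫ g = s.left ≫ g) : Mono (pullback.lift t.left s.left w) := by
  refine ⟨fun {T₀} a b hab => ?_⟩
  have h1 : a ≫ t.left = b ≫ t.left := by
    have := congrArg (· ≫ pullback.fst g g) hab
    simpa only [Category.assoc, pullback.lift_fst] using this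
  have h2 : a ≫ s.left = b ≫ s.left := by
    have := congrArg (· ≫ pullback.snd g g) hab
    simpa only [Category.assoc, pullback.lift_snd] using this
  let T : Over S := Over.mk (a ≫ R.hom)
  let a' : T ⟶ R := Over.homMk a rfl
  let b' : T ⟶ R := Over.homMk b (by
    change b ≫ R.hom = a ≫ R.hom
    rw [← Over.w t, ← Category.assoc, ← h1, Category.assoc])
  have := h.injective T a' b' (by ext; exact h1) (by ext; exact h2)
  exact congrArg CommaMorphism.left this

/-- The kernel pair of a chart from the spectrum of a field, which becomes etale over a field,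
has finitely many points. -/
theorem finite_of_isEqvRel_over_field {L k : Type u} [Field L] [Field k]
    {strL : Spec (CommRingCat.of L) ⟶ S} {R : Over S} {s t : R ⟶ Over.mk strL}
    (h : IsEqvRel s t) (g : Spec (CommRingCat.of L) ⟶ Spec (CommRingCat.of k)) [Etale g]
    (w : t.left ≫ g = s.left ≫ g) : Finite ↥R.left := by
  have hfin : IsFinite g := isFinite_of_etale_fields g
  have hP : Finite ↥(pullback g g) := by
    have h1 : IsFinite (pullback.fst g g) := inferInstance
    have y : ↥(Spec (CommRingCat.of L)) := (⊥ : PrimeSpectrum L)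
    have h2 := Scheme.Hom.finite_preimage_singleton (pullback.fst g g) y
    have hsub : Subsingleton ↥(Spec (CommRingCat.of L)) :=
      inferInstanceAs (Subsingleton (PrimeSpectrum L))
    have h3 : (pullback.fst g g) ⁻¹' {y} = Set.univ := by
      ext x
      simp only [Set.mem_preimage, Set.mem_univ, iff_true]
      exact Subsingleton.elim _ _
    exact Set.finite_univ_iff.1 (h3 ▸ h2)
  have hmono := mono_lift_of_isEqvRel (U := Over.mk strL) h g w
  exact Finite.of_injective _ (Scheme.Hom.injective (pullback.lift t.left s.left w))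

end Groth.Agent.H3.FinQuot

namespace Groth.Agent.H3.AlgSpProp

open _root_.AlgSp Groth.Agent.H5.AlgSp MorphismProperty Opposite Topology

variable {S : Scheme.{u}} {F' F : Sp S}

/-- A monomorphism `φ : F' ⟶ F` such that some chart `a : h_U ⟶ F'`, surjective on points, has
`a ≫ φ` representable etale, is an open immersion. -/
theorem repWith_isOpenImmersion_of_mono_of_chart (φ : F' ⟶ F) [Mono φ] {U : Over S}
    (a : (yon S).obj U ⟶ F') (has : ∀ z : Points F', ∃ t, Points.ofPt a t = z)
    (hg : RepWith @Etale (a ≫ φ)) : RepWith @IsOpenImmersion φ := by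
  have hrange : Set.range (Points.map φ) = Set.range (Points.ofPt (a ≫ φ)) := by
    ext x
    constructor
    · rintro ⟨z, rfl⟩
      obtain ⟨t, rfl⟩ := has z
      exact ⟨t, (Points.map_ofPt _ _ _).symm⟩
    · rintro ⟨t, rfl⟩
      exact ⟨Points.ofPt a t, Points.map_ofPt _ _ _⟩
  have hW : IsOpen (Set.range (Points.map φ)) := by
    rw [hrange]
    exact isOpen_range_ofPt hg
  refine repWith_isOpenImmersion_of_mono_of_isOpen_range φ hW ?_
  intro T ξ hξ
  obtain ⟨y, hy, hye, hys⟩ := exists_factor_image hg
  have hξ' : ∀ t, Points.ofPt ξ t ∈ Set.range (Points.ofPt (a ≫ φ)) := by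
    intro t
    rw [← hrange]
    exact hξ t
  obtain ⟨ξ', hξ'eq⟩ := (factors_openSubι_iff F _ ξ).2 hξ'
  have : Sheaf.IsLocallySurjective y := isLocallySurjective_of_etale_surjective y hye hys
  refine (J S).superset_covering ?_ (liftSieve_mem y ξ')
  rintro T' g ⟨τ, hτ⟩
  refine ⟨τ ≫ a, ?_⟩
  rw [Category.assoc, ← hy, ← Category.assoc, hτ, Category.assoc, hξ'eq]

end Groth.Agent.H3.AlgSpProp

namespace Groth.Agent.H3.FinQuot

open Groth.Agent.H5.AlgSp Groth.Agent.H3.AlgSpProp

variable {S : Scheme.{u}}

/-- **An algebraic space etale over the spectrum of a field is a scheme.** -/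
theorem isRepresentable_of_isEtaleMor_to_field {X : Sp S} (hX : IsAlgSpace X)
    (k : Type u) [Field k] (str : Spec (CommRingCat.of k) ⟶ S)
    (f : X ⟶ (yon S).obj (Over.mk str)) (hf : IsEtaleMor f) : X.obj.IsRepresentable := by
  obtain ⟨U, a, hae, has⟩ := hX.atlas
  have hg0 : RepWith @Etale (a ≫ f) := hf a hae
  obtain ⟨g, hg⟩ := (yon S).map_surjective (a ≫ f)
  have hge : Etale g.left := (repWith_yon_map_iff _ _).1 (hg ▸ hg0)
  have key : ∀ u : ↥U.left, ∃ (M : Over S) (j : (yon S).obj M ⟶ X),
      RepWith @IsOpenImmersion j ∧ ∃ m, Points.ofPt j m = Points.ofPt a u := by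
    intro u
    obtain ⟨L, hL, c, hc, ⟨pt, hpt⟩⟩ := exists_field_chart_of_etale_field g.left u
    let strL : Spec (CommRingCat.of L) ⟶ S := c ≫ U.hom
    let cO : Over.mk strL ⟶ U := Over.homMk c rfl
    let φ : (yon S).obj (Over.mk strL) ⟶ X := (yon S).map cO ≫ a
    have hcOe : RepWith @Etale ((yon S).map cO) :=
      (repWith_yon_map_iff _ _).2 (by change Etale c; infer_instance)
    have hφe : RepWith @Etale φ := MorphismProperty.comp_mem _ _ _ hcOe hae
    have hrep := hφe.rep
    let R : Over S := hrep.pullback φ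
    let t : R ⟶ Over.mk strL := hrep.fst' φ
    let s : R ⟶ Over.mk strL := hrep.snd φ
    have sq : IsPullback ((yon S).map t) ((yon S).map s) φ φ := hrep.isPullback' φ
    have heq : IsEqvRel s t := isEqvRel_of_isPullback φ s t sq
    have hse : Etale s.left := hφe.property φ _ s sq
    have hφf : φ ≫ f = (yon S).map (cO ≫ g) := by
      rw [Functor.map_comp, hg, Category.assoc]
    have w0 : t ≫ cO ≫ g = s ≫ cO ≫ g := by
      apply (yon S).map_injective
      have e1 : (yon S).map (t ≫ cO ≫ g) = (yon S).map t ≫ φ ≫ f := by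
        rw [hφf, ← Functor.map_comp]
      have e2 : (yon S).map (s ≫ cO ≫ g) = (yon S).map s ≫ φ ≫ f := by
        rw [hφf, ← Functor.map_comp]
      rw [e1, e2]
      have := congrArg (· ≫ f) sq.w
      simpa only [Category.assoc] using this
    have w : t.left ≫ (c ≫ g.left) = s.left ≫ (c ≫ g.left) :=
      congrArg CommaMorphism.left w0
    have : Etale (c ≫ g.left) := inferInstance
    have hfinR : Finite ↥R.left := finite_of_isEqvRel_over_field heq (c ≫ g.left) w
    have hsfin : IsFinite s.left := by
      have hart : IsLocallyArtinian (Over.mk strL).left := by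
        change IsLocallyArtinian (Spec (CommRingCat.of L))
        rw [Scheme.isLocallyArtinianScheme_Spec]
        infer_instance
      have : IsAffine (Over.mk strL).left := by
        change IsAffine (Spec (CommRingCat.of L)); infer_instance
      have hcomp : CompactSpace ↥R.left := inferInstance
      have : QuasiCompact s.left := (quasiCompact_iff_compactSpace _).2 hcomp
      have : LocallyQuasiFinite s.left := locallyQuasiFinite_of_etale s.left
      exact IsFinite.of_locallyQuasiFinite s.left
    obtain ⟨k', hk', str', cm, q, hq1, hq2, h1, h2, h3, h4, hpb⟩ :=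
      exists_mono_of_finite_kernelPair strL φ s t sq
    refine ⟨Over.mk str', q, ?_, cm.left pt, ?_⟩
    · have hsurj : RepWith @Surjective ((yon S).map cm) := (repWith_yon_map_iff _ _).2 h3
      exact repWith_isOpenImmersion_of_mono_of_chart q ((yon S).map cm)
        (fun z => ofPt_surjective_of_repWith hsurj z) (hq2 ▸ hφe)
    · rw [← ofPt_yon_map_comp cm q pt, hq2, ofPt_yon_map_comp cO a pt]
      congr 1
  choose M j hj m hm using key
  obtain ⟨X', e, -⟩ := LocalRep.exists_iso (U := M) (f := j) hj (fun x => by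
    obtain ⟨u, rfl⟩ := ofPt_surjective_of_repWith has x
    exact ⟨u, m u, hm u⟩)
  exact (representableByOfIso e).isRepresentable

end Groth.Agent.H3.FinQuot
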