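import Groth.Agent.Lib.Helper3.FinQuot.Cocycle
import Groth.Prelude.Def_AlgSp

/-!
# Affine equivalence relations: the ring-level data (helper3)

Generalizes `FinQuot/FieldQuot` from a field to an arbitrary ring `A`.
-/

set_option autoImplicit false
universe u

open CategoryTheory CategoryTheory.Limits AlgebraicGeometry TensorProduct
open AlgSp

namespace Groth.Agent.H3.FinQuot

section Data

variable {S : Scheme.{u}} {A : CommRingCat.{u}} (str : Spec A ⟶ S)
  {B : CommRingCat.{u}} (s t : A ⟶ B)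
  (hst : Spec.map t ≫ str = Spec.map s ≫ str)

/-- The relation `Spec B ⇉ Spec A` as a pair in `Over S`. -/
noncomputable abbrev RA : Over S := Over.mk (Spec.map s ≫ str)
noncomputable abbrev UA : Over S := Over.mk str
noncomputable abbrev sA : RA str s ⟶ UA str := Over.homMk (Spec.map s) rfl
noncomputable abbrev tA : RA str s ⟶ UA str := Over.homMk (Spec.map t) hst

variable (heq : IsEqvRel (sA str s) (tA str s t hst))

include heq in
/-- the unit: a retraction of `s` and `t`. -/
lemma exists_unitA : ∃ e : B ⟶ A, s ≫ e = 𝟙 _ ∧ t ≫ e = 𝟙 _ := by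
  obtain ⟨r, hr1, hr2⟩ := (heq.equivalence (UA str)).refl (𝟙 _)
  refine ⟨Spec.preimage r.left, ?_, ?_⟩
  · apply Spec.map_injective
    rw [Spec.map_comp, Spec.map_preimage, Spec.map_id]
    exact congrArg CommaMorphism.left hr2
  · apply Spec.map_injective
    rw [Spec.map_comp, Spec.map_preimage, Spec.map_id]
    exact congrArg CommaMorphism.left hr1

include heq in
/-- two ring maps out of `B` agreeing on `s(A)` and `t(A)` agree. -/
lemma hom_ext_of_eqvRelA {D : CommRingCat.{u}} {g h : B ⟶ D} (h1 : s ≫ g = s ≫ h)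
    (h2 : t ≫ g = t ≫ h) : g = h := by
  apply Spec.map_injective
  have e1 : Spec.map g ≫ Spec.map s = Spec.map h ≫ Spec.map s := by
    rw [← Spec.map_comp, ← Spec.map_comp, h1]
  have e2 : Spec.map g ≫ Spec.map t = Spec.map h ≫ Spec.map t := by
    rw [← Spec.map_comp, ← Spec.map_comp, h2]
  let T : Over S := Over.mk (Spec.map g ≫ Spec.map s ≫ str)
  let r : T ⟶ RA str s := Over.homMk (Spec.map g) rfl
  let r' : T ⟶ RA str s := Over.homMk (Spec.map h) (by
    change Spec.map h ≫ Spec.map s ≫ str = Spec.map g ≫ Spec.map s ≫ str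
    rw [← Category.assoc, ← e1, Category.assoc])
  have := heq.injective T r r' (by ext; exact e2) (by ext; exact e1)
  exact congrArg CommaMorphism.left this

/-- `t` as a ring hom into `Via s`. -/
def tViaA : A →+* Via s.hom := (toVia s.hom : B →+* Via s.hom).comp t.hom

lemma tViaA_apply (x : A) : tViaA s t x = toVia s.hom (t.hom x) := rfl

include heq in
/-- `t(A)` spans `B` over `s(A)`. -/
lemma span_range_tViaA (hfin : s.hom.Finite) :
    Submodule.span A (Set.range (tViaA s t)) = ⊤ := by
  let B' : Subalgebra A (Via s.hom) := Algebra.adjoin A (Set.range (tViaA s t))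
  let f : CommRingCat.of B' ⟶ B :=
    CommRingCat.ofHom (((toVia s.hom).symm : Via s.hom →+* B).comp B'.val.toRingHom)
  let sK : A ⟶ CommRingCat.of B' := CommRingCat.ofHom (algebraMap A B')
  let tK : A ⟶ CommRingCat.of B' := CommRingCat.ofHom
    ((tViaA s t).codRestrict B'.toSubring (fun x => Algebra.subset_adjoin ⟨x, rfl⟩))
  have hs : sK ≫ f = s := by ext x; rfl
  have ht : tK ≫ f = t := by ext x; rfl
  have hepi : Epi f := ⟨fun g h hgh => hom_ext_of_eqvRelA str s t hst heq
    (by rw [← hs, Category.assoc, Category.assoc, hgh])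
    (by rw [← ht, Category.assoc, Category.assoc, hgh])⟩
  have hff : f.hom.Finite := by
    have : (f.hom.comp sK.hom).Finite := by
      have e : f.hom.comp sK.hom = s.hom := congrArg CommRingCat.Hom.hom hs
      rw [e]; exact hfin
    exact RingHom.Finite.of_comp_finite this
  have hsurj := RingHom.surjective_of_epi_of_finite f hff
  have htop : B' = ⊤ := by
    rw [eq_top_iff]
    rintro y -
    obtain ⟨z, hz⟩ := hsurj ((toVia s.hom).symm y)
    have : (z : Via s.hom) = y := (toVia s.hom).symm.injective hz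
    rw [← this]
    exact z.2
  have h1 := Algebra.adjoin_eq_span A (Set.range (tViaA s t))
  have h2 : (Submonoid.closure (Set.range (tViaA s t)) : Set (Via s.hom)) =
      Set.range (tViaA s t) := by
    have : Set.range (tViaA s t) = ((MonoidHom.mrange (tViaA s t : A →* Via s.hom) :
        Submonoid (Via s.hom)) : Set (Via s.hom)) := rfl
    rw [this, Submonoid.closure_eq]
  rw [h2] at h1
  rw [← h1]
  change B'.toSubmodule = ⊤
  rw [htop]
  rfl

/-- `Γ(R ×_{s,U,t} R)` -/
abbrev B2A : CommRingCat.{u} := CommRingCat.of (Via s.hom ⊗[A] Via t.hom)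

noncomputable def p0A : B ⟶ B2A s t := CommRingCat.ofHom
  ((Algebra.TensorProduct.includeLeftRingHom : Via s.hom →+* Via s.hom ⊗[A] Via t.hom).comp
    (toVia s.hom : B →+* Via s.hom))

noncomputable def p1A : B ⟶ B2A s t := CommRingCat.ofHom
  ((Algebra.TensorProduct.includeRight : Via t.hom →ₐ[A] Via s.hom ⊗[A] Via t.hom).toRingHom.comp
    (toVia t.hom : B →+* Via t.hom))

lemma p0A_apply (y : B) : (p0A s t).hom y = toVia s.hom y ⊗ₜ[A] (1 : Via t.hom) := rfl
lemma p1A_apply (y : B) : (p1A s t).hom y = (1 : Via s.hom) ⊗ₜ[A] toVia t.hom y := rfl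

lemma s_p0A_eq_t_p1A : s ≫ p0A s t = t ≫ p1A s t := by
  ext x
  change toVia s.hom (s.hom x) ⊗ₜ[A] (1 : Via t.hom) = (1 : Via s.hom) ⊗ₜ[A] toVia t.hom (t.hom x)
  have h1 : toVia s.hom (s.hom x) = x • (1 : Via s.hom) := by
    rw [← map_one (toVia s.hom), via_smul_def, mul_one]
  have h2 : toVia t.hom (t.hom x) = x • (1 : Via t.hom) := by
    rw [← map_one (toVia t.hom), via_smul_def, mul_one]
  rw [h1, h2, TensorProduct.smul_tmul]

include heq in
/-- the composition law of the equivalence relation, on rings. -/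
lemma exists_compA : ∃ c : B ⟶ B2A s t, t ≫ c = t ≫ p0A s t ∧ s ≫ c = s ≫ p1A s t := by
  let T : Over S := Over.mk (Spec.map (p0A s t) ≫ Spec.map s ≫ str)
  let q0 : T ⟶ RA str s := Over.homMk (Spec.map (p0A s t)) rfl
  have h01 : Spec.map (p0A s t) ≫ Spec.map s = Spec.map (p1A s t) ≫ Spec.map t := by
    rw [← Spec.map_comp, ← Spec.map_comp, s_p0A_eq_t_p1A]
  let q1 : T ⟶ RA str s := Over.homMk (Spec.map (p1A s t)) (by
    change Spec.map (p1A s t) ≫ Spec.map s ≫ str = Spec.map (p0A s t) ≫ Spec.map s ≫ str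
    rw [← hst, ← Category.assoc, ← h01, Category.assoc, hst])
  have r1 : ∃ r : T ⟶ RA str s, r ≫ tA str s t hst = q0 ≫ tA str s t hst ∧
      r ≫ sA str s = q0 ≫ sA str s := ⟨q0, rfl, rfl⟩
  have r2 : ∃ r : T ⟶ RA str s, r ≫ tA str s t hst = q0 ≫ sA str s ∧
      r ≫ sA str s = q1 ≫ sA str s := ⟨q1, by ext; exact h01.symm, rfl⟩
  obtain ⟨c, hc1, hc2⟩ := (heq.equivalence T).trans r1 r2
  refine ⟨Spec.preimage c.left, ?_, ?_⟩
  · apply Spec.map_injective
    rw [Spec.map_comp, Spec.map_preimage, Spec.map_comp]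
    exact congrArg CommaMorphism.left hc1
  · apply Spec.map_injective
    rw [Spec.map_comp, Spec.map_preimage, Spec.map_comp]
    exact congrArg CommaMorphism.left hc2

include heq in
/-- The ring-level structure of an affine equivalence relation, unbundled. -/
theorem exists_ring_data (hfin : s.hom.Finite) :
    ∃ (e : B →+* A) (c : B →+* Via s.hom ⊗[A] Via t.hom),
      (∀ x, e (s.hom x) = x) ∧ (∀ x, e (t.hom x) = x) ∧
      (∀ x : A, c (t.hom x) = toVia s.hom (t.hom x) ⊗ₜ[A] (1 : Via t.hom)) ∧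
      (∀ x : A, c (s.hom x) = (1 : Via s.hom) ⊗ₜ[A] toVia t.hom (s.hom x)) ∧
      Submodule.span A (Set.range fun α : A => toVia s.hom (t.hom α)) = ⊤ := by
  obtain ⟨e, he1, he2⟩ := exists_unitA str s t hst heq
  obtain ⟨c, hc1, hc2⟩ := exists_compA str s t hst heq
  refine ⟨e.hom, c.hom, ?_, ?_, ?_, ?_, ?_⟩
  · intro x
    have := congrArg (fun φ => φ.hom x) he1
    simpa using this
  · intro x
    have := congrArg (fun φ => φ.hom x) he2
    simpa using this
  · intro x
    have := congrArg (fun φ => φ.hom x) hc1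
    simp only [CommRingCat.hom_comp, RingHom.comp_apply] at this
    rw [this, p0A_apply]
  · intro x
    have := congrArg (fun φ => φ.hom x) hc2
    simp only [CommRingCat.hom_comp, RingHom.comp_apply] at this
    rw [this, p1A_apply]
  · exact span_range_tViaA str s t hst heq hfin

variable {ι : Type u} [Finite ι] (a : ι → A) (b : Module.Basis ι A (Via s.hom))
  (hb : ∀ i, b i = toVia s.hom (t.hom (a i)))

include heq hb in
/-- Main algebraic output in the free case: `A` is finite free over the invariants and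
`A ⊗ A ≃ B`. -/
theorem basisInv_and_bijective (hfin : s.hom.Finite) :
    Nonempty (Module.Basis ι (inv s.hom t.hom) A) ∧
      Function.Bijective (tensorToB s.hom t.hom) := by
  obtain ⟨e, c, hes, het, hct, hcs, -⟩ := exists_ring_data str s t hst heq hfin
  exact ⟨⟨basisInv s.hom t.hom e hes het c hct hcs a b hb⟩,
    tensorToB_bijective s.hom t.hom e hes het c hct hcs a b hb⟩

/-- The inclusion of the invariants. -/
def inclA : CommRingCat.of (inv s.hom t.hom) ⟶ A :=
  CommRingCat.ofHom (inv s.hom t.hom).subtype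

lemma inclA_s_eq_inclA_t : inclA s t ≫ s = inclA s t ≫ t := by
  ext x
  exact x.2

include heq hb in
theorem isPushout_inclA (hfin : s.hom.Finite) : IsPushout (inclA s t) (inclA s t) s t := by
  obtain ⟨-, hbij⟩ := basisInv_and_bijective str s t hst heq a b hb hfin
  letI := algInv s.hom t.hom
  let e : A ⊗[inv s.hom t.hom] A ≃+* B := RingEquiv.ofBijective (tensorToB s.hom t.hom) hbij
  have h0 := CommRingCat.isPushout_tensorProduct (inv s.hom t.hom) A A
  refine h0.of_iso (Iso.refl _) (Iso.refl _) (Iso.refl _) e.toCommRingCatIso ?_ ?_ ?_ ?_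
  · rfl
  · rfl
  · ext x
    change tensorToB s.hom t.hom (x ⊗ₜ 1) = s.hom x
    rw [tensorToB_tmul, map_one, mul_one]
  · ext x
    change tensorToB s.hom t.hom (1 ⊗ₜ x) = t.hom x
    rw [tensorToB_tmul, map_one, one_mul]

include heq hb in
theorem isPullback_Spec_inclA (hfin : s.hom.Finite) :
    IsPullback (Spec.map t) (Spec.map s) (Spec.map (inclA s t)) (Spec.map (inclA s t)) :=
  (isPullback_SpecMap_of_isPushout _ _ _ _ (isPushout_inclA str s t hst heq a b hb hfin)).flip

include heq hb in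
theorem inclA_props (hfin : s.hom.Finite) :
    IsFinite (Spec.map (inclA s t)) ∧ Flat (Spec.map (inclA s t)) ∧
      Surjective (Spec.map (inclA s t)) ∧ LocallyOfFinitePresentation (Spec.map (inclA s t)) := by
  obtain ⟨⟨bC⟩, -⟩ := basisInv_and_bijective str s t hst heq a b hb hfin
  have hfinite : Module.Finite (inv s.hom t.hom) A := Module.Finite.of_basis bC
  have hfree : Module.Free (inv s.hom t.hom) A := Module.Free.of_basis bC
  have h1 : (inclA s t).hom.Finite := hfinite
  have h2 : (inclA s t).hom.Flat := by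
    change Module.Flat (inv s.hom t.hom) A
    infer_instance
  refine ⟨(IsFinite.SpecMap_iff _).2 h1, Flat.SpecMap_iff.2 h2, ?_, ?_⟩
  · have hsurj : Function.Surjective (PrimeSpectrum.comap (algebraMap (inv s.hom t.hom) A)) := by
      rw [PrimeSpectrum.comap_surjective_iff_injective_of_finite]
      exact Subtype.val_injective
    refine ⟨fun x => ?_⟩
    obtain ⟨y, hy⟩ := hsurj x
    exact ⟨y, hy⟩
  · rw [LocallyOfFinitePresentation.SpecMap_iff]
    change Algebra.FinitePresentation (inv s.hom t.hom) A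
    have : Module.FinitePresentation (inv s.hom t.hom) A :=
      Module.finitePresentation_of_projective _ _
    exact Algebra.FinitePresentation.of_finitePresentation _ _

include heq hb in
/-- The structure morphism descends to the quotient. -/
theorem exists_strA (hfin : s.hom.Finite) :
    ∃ str' : Spec (CommRingCat.of (inv s.hom t.hom)) ⟶ S, Spec.map (inclA s t) ≫ str' = str := by
  obtain ⟨h1, h2, h3, h4⟩ := inclA_props str s t hst heq a b hb hfin
  have hpb := isPullback_Spec_inclA str s t hst heq a b hb hfin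
  have : EffectiveEpi (Spec.map (inclA s t)) := inferInstance
  have key : ∀ {Z : Scheme.{u}} (g₁ g₂ : Z ⟶ Spec A),
      g₁ ≫ Spec.map (inclA s t) = g₂ ≫ Spec.map (inclA s t) → g₁ ≫ str = g₂ ≫ str := by
    intro Z g₁ g₂ h
    have e1 : hpb.lift g₁ g₂ h ≫ Spec.map t = g₁ := hpb.lift_fst _ _ _
    have e2 : hpb.lift g₁ g₂ h ≫ Spec.map s = g₂ := hpb.lift_snd _ _ _
    calc g₁ ≫ str = (hpb.lift g₁ g₂ h ≫ Spec.map t) ≫ str := by rw [e1]
      _ = (hpb.lift g₁ g₂ h ≫ Spec.map s) ≫ str := by rw [Category.assoc, hst, Category.assoc]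
      _ = g₂ ≫ str := by rw [e2]
  exact ⟨EffectiveEpi.desc (Spec.map (inclA s t)) str key, EffectiveEpi.fac _ _ key⟩

end Data

section Quot

variable {S : Scheme.{u}}

/-- Equivalence relations transport along isomorphisms of the relation object. -/
lemma isEqvRel_of_isoA {R R' U : Over S} {s t : R ⟶ U} (h : IsEqvRel s t) (j : R' ≅ R) :
    IsEqvRel (j.hom ≫ s) (j.hom ≫ t) where
  injective T r r' h1 h2 := by
    have := h.injective T (r ≫ j.hom) (r' ≫ j.hom) (by simpa using h1) (by simpa using h2)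
    exact (cancel_mono j.hom).1 this
  equivalence T := by
    have : (fun a b : T ⟶ U => ∃ r : T ⟶ R', r ≫ j.hom ≫ t = a ∧ r ≫ j.hom ≫ s = b) =
        (fun a b : T ⟶ U => ∃ r : T ⟶ R, r ≫ t = a ∧ r ≫ s = b) := by
      ext a b
      constructor
      · rintro ⟨r, h1, h2⟩
        exact ⟨r ≫ j.hom, by simpa using h1, by simpa using h2⟩
      · rintro ⟨r, h1, h2⟩
        exact ⟨r ≫ j.inv, by simpa using h1, by simpa using h2⟩
    rw [this]
    exact h.equivalence T

/-- the transported relation is an equivalence relation -/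
lemma isEqvRel_transport {A B : CommRingCat.{u}} (str : Spec A ⟶ S)
    {R : Over S} (s t : R ⟶ Over.mk str) (h : IsEqvRel s t) (i : R.left ≅ Spec B)
    (s₀ t₀ : A ⟶ B) (hs₀ : Spec.map s₀ = i.inv ≫ s.left) (ht₀ : Spec.map t₀ = i.inv ≫ t.left) :
    ∃ hst : Spec.map t₀ ≫ str = Spec.map s₀ ≫ str, IsEqvRel (sA str s₀) (tA str s₀ t₀ hst) := by
  have hst : Spec.map t₀ ≫ str = Spec.map s₀ ≫ str := by
    rw [hs₀, ht₀, Category.assoc, Category.assoc]
    have h1 := Over.w s
    have h2 := Over.w t
    simp only [Over.mk_hom] at h1 h2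
    rw [h1, h2]
  refine ⟨hst, ?_⟩
  let j : RA str s₀ ≅ R := Over.isoMk i.symm (by
    change i.inv ≫ R.hom = Spec.map s₀ ≫ str
    rw [hs₀, Category.assoc]
    have h1 := Over.w s
    simp only [Over.mk_hom] at h1
    rw [h1])
  have hjs : j.hom ≫ s = sA str s₀ := by
    ext
    change i.inv ≫ s.left = Spec.map s₀
    rw [hs₀]
  have hjt : j.hom ≫ t = tA str s₀ t₀ hst := by
    ext
    change i.inv ≫ t.left = Spec.map t₀
    rw [ht₀]
  rw [← hjs, ← hjt]
  exact isEqvRel_of_isoA h j

/-- **Quotient of an affine scheme by a finite equivalence relation, free case.** -/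
theorem exists_quotient_affine_of_basis {A B : CommRingCat.{u}} (str : Spec A ⟶ S)
    {R : Over S} (s t : R ⟶ Over.mk str) (h : IsEqvRel s t) (i : R.left ≅ Spec B)
    (s₀ t₀ : A ⟶ B) (hs₀ : Spec.map s₀ = i.inv ≫ s.left) (ht₀ : Spec.map t₀ = i.inv ≫ t.left)
    (hfin : s₀.hom.Finite)
    {ι : Type u} [Finite ι] (a : ι → A) (b : Module.Basis ι A (Via s₀.hom))
    (hb : ∀ i, b i = toVia s₀.hom (t₀.hom (a i))) :
    ∃ (C : CommRingCat.{u}) (str' : Spec C ⟶ S) (cm : Over.mk str ⟶ Over.mk str'),
      IsFinite cm.left ∧ Flat cm.left ∧ Surjective cm.left ∧ LocallyOfFinitePresentation cm.left ∧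
        IsPullback t s cm cm := by
  obtain ⟨hst, heq⟩ := isEqvRel_transport str s t h i s₀ t₀ hs₀ ht₀
  obtain ⟨h1, h2, h3, h4⟩ := inclA_props str s₀ t₀ hst heq a b hb hfin
  obtain ⟨str', hstr'⟩ := exists_strA str s₀ t₀ hst heq a b hb hfin
  have hpb := isPullback_Spec_inclA str s₀ t₀ hst heq a b hb hfin
  let cm : Over.mk str ⟶ Over.mk str' := Over.homMk (Spec.map (inclA s₀ t₀)) hstr'
  refine ⟨CommRingCat.of (inv s₀.hom t₀.hom), str', cm, h1, h2, h3, h4, ?_⟩
  have hpb' : IsPullback t.left s.left (Spec.map (inclA s₀ t₀)) (Spec.map (inclA s₀ t₀)) := by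
    refine IsPullback.of_iso hpb i.symm (Iso.refl _) (Iso.refl _) (Iso.refl _) ?_ ?_ ?_ ?_
    · simp [ht₀]
    · simp [hs₀]
    · simp
    · simp
  have hw : t ≫ cm = s ≫ cm := by
    ext
    exact hpb'.w
  exact IsPullback.of_map (Over.forget S) hw hpb'

end Quot

end Groth.Agent.H3.FinQuot
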