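import Groth.Agent.Lib.Helper3.FinQuot.AffineRepAux

set_option autoImplicit false
universe u

open CategoryTheory CategoryTheory.Limits AlgebraicGeometry TensorProduct
open AlgSp

namespace Groth.Agent.H3.FinQuot

open Groth.Agent.H5.AlgSp

variable {S : Scheme.{u}}

/-- geometric half of the local representability theorem -/
theorem mem_schematicSet_of_local_data {X : Sp S}
    {A B : CommRingCat.{u}} (str : Spec A ⟶ S) (p : (yon S).obj (Over.mk str) ⟶ X)
    (hp : RepWith @Etale p) {R : Over S} (s t : R ⟶ Over.mk str)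
    (sq : IsPullback ((yon S).map t) ((yon S).map s) p p)
    (i : R.left ≅ Spec B) (s₀ t₀ : A ⟶ B) (hs₀ : Spec.map s₀ = i.inv ≫ s.left)
    (ht₀ : Spec.map t₀ = i.inv ≫ t.left) (y : A) (u : PrimeSpectrum A) (hy : y ∉ u.asIdeal)
    (s'' t'' : Localization.Away y →+* Localization.Away (s₀.hom y))
    (hs'' : ∀ α, s'' (algebraMap A (Localization.Away y) α) =
      algebraMap B (Localization.Away (s₀.hom y)) (s₀.hom α))
    (ht'' : ∀ α, t'' (algebraMap A (Localization.Away y) α) =
      algebraMap B (Localization.Away (s₀.hom y)) (t₀.hom α))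
    (hfin : s''.Finite) {n : ℕ} (a : Fin n → A)
    (b : Module.Basis (Fin n) (Localization.Away y) (Via s''))
    (hb : ∀ k, b k = toVia s'' (t'' (algebraMap A (Localization.Away y) (a k)))) :
    Points.ofPt p (specPt u) ∈ schematicSet X := by
  let A' : CommRingCat.{u} := CommRingCat.of (Localization.Away y)
  let B' : CommRingCat.{u} := CommRingCat.of (Localization.Away (s₀.hom y))
  let jA : A ⟶ A' := CommRingCat.ofHom (algebraMap A (Localization.Away y))
  let jB : B ⟶ B' := CommRingCat.ofHom (algebraMap B (Localization.Away (s₀.hom y)))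
  let s₀' : A' ⟶ B' := CommRingCat.ofHom s''
  let t₀' : A' ⟶ B' := CommRingCat.ofHom t''
  have hjs : jA ≫ s₀' = s₀ ≫ jB := by
    ext α
    exact hs'' α
  have hjt : jA ≫ t₀' = t₀ ≫ jB := by
    ext α
    exact ht'' α
  have hRs : s.left ≫ str = R.hom := Over.w s
  have hRt : t.left ≫ str = R.hom := Over.w t
  let U' : Over S := Over.mk (Spec.map jA ≫ str)
  let jU : U' ⟶ Over.mk str := Over.homMk (Spec.map jA) rfl
  let R' : Over S := Over.mk (Spec.map jB ≫ i.inv ≫ R.hom)
  let jR : R' ⟶ R := Over.homMk (Spec.map jB ≫ i.inv) (by simp [R'])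
  let s' : R' ⟶ U' := Over.homMk (Spec.map s₀') (by
    change Spec.map s₀' ≫ Spec.map jA ≫ str = Spec.map jB ≫ i.inv ≫ R.hom
    rw [← Category.assoc, ← Spec.map_comp, hjs, Spec.map_comp, hs₀, ← hRs]
    simp only [Category.assoc])
  let t' : R' ⟶ U' := Over.homMk (Spec.map t₀') (by
    change Spec.map t₀' ≫ Spec.map jA ≫ str = Spec.map jB ≫ i.inv ≫ R.hom
    rw [← Category.assoc, ← Spec.map_comp, hjt, Spec.map_comp, ht₀, ← hRt]
    simp only [Category.assoc])
  have hs : jR ≫ s = s' ≫ jU := by
    ext
    change (Spec.map jB ≫ i.inv) ≫ s.left = Spec.map s₀' ≫ Spec.map jA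
    rw [← Spec.map_comp, hjs, Spec.map_comp, hs₀, Category.assoc]
  have ht : jR ≫ t = t' ≫ jU := by
    ext
    change (Spec.map jB ≫ i.inv) ≫ t.left = Spec.map t₀' ≫ Spec.map jA
    rw [← Spec.map_comp, hjt, Spec.map_comp, ht₀, Category.assoc]
  have hoU : IsOpenImmersion jU.left := by
    change IsOpenImmersion (Spec.map (CommRingCat.ofHom (algebraMap A (Localization.Away y))))
    infer_instance
  have hoR : IsOpenImmersion jR.left := by
    change IsOpenImmersion (Spec.map (CommRingCat.ofHom
      (algebraMap B (Localization.Away (s₀.hom y)))) ≫ i.inv)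
    infer_instance
  have hrange : ∀ r : ↥R.left, s.left r ∈ Set.range jU.left → r ∈ Set.range jR.left := by
    rintro r ⟨z, hz⟩
    have h1 : y ∉ (primePt (B := A) (s.left r)).asIdeal := by
      rw [← hz]
      change y ∉ (PrimeSpectrum.comap (algebraMap A (Localization.Away y)) (primePt z)).asIdeal
      intro hmem
      have hu : IsUnit (algebraMap A (Localization.Away y) y) :=
        IsLocalization.Away.algebraMap_isUnit y
      exact (primePt z).2.ne_top (Ideal.eq_top_of_isUnit_mem _ hmem hu)
    have h2 := specPt_comap_hom str s i s₀ hs₀ r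
    have h3 : s₀.hom y ∉ (primePt (i.hom r)).asIdeal := by
      intro hmem
      apply h1
      rw [← h2]
      exact hmem
    have h4 : primePt (i.hom r) ∈ Set.range (PrimeSpectrum.comap
        (algebraMap B (Localization.Away (s₀.hom y)))) := by
      rw [PrimeSpectrum.localization_away_comap_range _ (s₀.hom y)]
      exact h3
    obtain ⟨z', hz'⟩ := h4
    refine ⟨specPt (A := B') z', ?_⟩
    change i.inv ((Spec.map jB) (specPt z')) = r
    have h5 : (Spec.map jB) (specPt (A := B') z') = i.hom r := hz'
    rw [h5, ← Scheme.Hom.comp_apply i.hom i.inv, Iso.hom_inv_id]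
    rfl
  have sq' := isPullback_restrict_saturated p s t sq jU jR s' t' hs ht hrange
  let pU : (yon S).obj U' ⟶ X := (yon S).map jU ≫ p
  have hpU : RepWith @Etale pU :=
    MorphismProperty.comp_mem _ _ _ ((repWith_yon_map_iff @Etale jU).2 inferInstance) hp
  let W : Set (Points X) := Set.range (Points.ofPt pU)
  have hW : IsOpen W := by
    change IsOpen (Set.range (Points.ofPt pU))
    rw [← Set.image_univ]
    exact isOpenMap_ofPt_of_etale hpU _ isOpen_univ
  obtain ⟨p', hp'⟩ := (factors_openSubι_iff X W pU).2 (fun z => ⟨z, rfl⟩)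
  have hp'e : RepWith @Etale p' := repWith_of_comp_mono (openSubι X W) (by rw [hp']; exact hpU)
  have hp's : RepWith @Surjective p' := by
    apply repWith_surjective_of_ofPt hp'e.rep
    intro z
    have hz : Points.map (openSubι X W) z ∈ W :=
      (range_points_map_openSubι W).subset ⟨z, rfl⟩
    obtain ⟨v, hv⟩ := hz
    refine ⟨v, ?_⟩
    apply points_map_injective_of_mono (openSubι X W)
    rw [Points.map_ofPt, hp']
    exact hv
  have sq'' : IsPullback ((yon S).map t') ((yon S).map s') p' p' :=
    isPullback_of_comp_mono (openSubι X W) (by rw [hp']; exact sq')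
  let b₁ : Module.Basis (ULift.{u} (Fin n)) A' (Via s₀'.hom) := b.reindex Equiv.ulift.symm
  obtain ⟨C, str'', e, c, hce, -, -, -⟩ := exists_iso_spec_of_chart_basis (X := openSub X W)
    (Spec.map jA ≫ str) p' hp'e hp's s' t' sq'' (Iso.refl _) s₀' t₀' (Category.id_comp _).symm (Category.id_comp _).symm
    hfin (fun k : ULift.{u} (Fin n) => algebraMap A (Localization.Away y) (a k.down)) b₁
    (fun k => by
      rw [Module.Basis.reindex_apply]
      exact hb _)
  let j : (yon S).obj (Over.mk str'') ⟶ X := e.hom ≫ openSubι X W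
  have hj : RepWith @IsOpenImmersion j :=
    MorphismProperty.RespectsIso.precomp _ e.hom _ (repWith_openSubι hW)
  have hu : specPt u ∈ Set.range jU.left := by
    have : u ∈ Set.range (PrimeSpectrum.comap (algebraMap A (Localization.Away y))) := by
      rw [PrimeSpectrum.localization_away_comap_range _ y]
      exact hy
    obtain ⟨z, hz⟩ := this
    exact ⟨specPt (A := A') z, congrArg specPt hz⟩
  obtain ⟨z, hz⟩ := hu
  refine ⟨Over.mk str'', j, hj, c.left z, ?_⟩
  rw [← hz, ← ofPt_yon_map_comp jU p z, ← ofPt_yon_map_comp c j z]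
  congr 1
  change (yon S).map c ≫ e.hom ≫ openSubι X W = pU
  rw [← Category.assoc, hce, hp']

/-- **Local representability of a quotient by a finite étale equivalence relation on an affine
scheme** (Stacks 03BM, pointwise form), with an explicit kernel pair: if `p : h_{Spec A} ⟶ X` is
representable étale with kernel pair `R ⇉ Spec A` such that `s` is finite, every point in the image
of `p` lies in the schematic locus of `X`. -/
theorem mem_schematicSet_of_kernelPair_finite {X : Sp S}
    {A : CommRingCat.{u}} (str : Spec A ⟶ S) (p : (yon S).obj (Over.mk str) ⟶ X)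
    (hp : RepWith @Etale p) {R : Over S} (s t : R ⟶ Over.mk str)
    (sq : IsPullback ((yon S).map t) ((yon S).map s) p p) (hsf : IsFinite s.left) (u : ↥(Spec A)) :
    Points.ofPt p u ∈ schematicSet X := by
  classical
  have heq : IsEqvRel s t := isEqvRel_of_isPullback p s t sq
  have hse : Etale s.left := hp.property p _ s sq
  have hUaff : IsAffine (Over.mk str).left := (inferInstance : IsAffine (Spec A))
  have hRaff : IsAffine R.left := isAffine_of_isAffineHom s.left
  let B : CommRingCat.{u} := Γ(R.left, ⊤)
  let i : R.left ≅ Spec B := R.left.isoSpec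
  let s₀ : A ⟶ B := Spec.preimage (i.inv ≫ s.left)
  let t₀ : A ⟶ B := Spec.preimage (i.inv ≫ t.left)
  have hs₀ : Spec.map s₀ = i.inv ≫ s.left := Spec.map_preimage _
  have ht₀ : Spec.map t₀ = i.inv ≫ t.left := Spec.map_preimage _
  have : IsFinite (Spec.map s₀) := by rw [hs₀]; infer_instance
  have : Etale (Spec.map s₀) := by rw [hs₀]; infer_instance
  obtain ⟨hfin, hMf, hMp⟩ := finite_projective_of_finite_etale s₀
  obtain ⟨hst, heq'⟩ := isEqvRel_transport str s t heq i s₀ t₀ hs₀ ht₀
  obtain ⟨e, c, hes, het, hct, hcs, hspan⟩ := exists_ring_data str s₀ t₀ hst heq' hfin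
  have hrank := rankAtStalk_comap_eq str p s t sq i s₀ t₀ hs₀ ht₀
  obtain ⟨n, a, x, y, b', hy, hchar, hsy, hsp, hrk⟩ :=
    exists_local_step s₀.hom t₀.hom c hct hcs hspan hrank (primePt u)
  -- `x ∣ y`
  have hyx : y = x * e b' := by
    have h1 := congrArg e hsy
    rw [hes, map_mul, het] at h1
    exact h1
  -- `t y` is a unit after inverting `s y`
  have hunit : IsUnit (algebraMap B (Localization.Away (s₀.hom y)) (t₀.hom y)) := by
    apply isUnit_algebraMap_of_forall_notMem (s₀.hom y) (t₀.hom y)
    intro r hr
    have h1 : y ∉ (PrimeSpectrum.comap s₀.hom r).asIdeal := hr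
    rw [hchar] at h1
    have h2 := (comap_mem_saturated_iff str p s t sq i s₀ t₀ hs₀ ht₀
      {q | x ∉ q.asIdeal} r).1 h1
    have h3 : y ∉ (PrimeSpectrum.comap t₀.hom r).asIdeal := by
      rw [hchar]
      exact h2
    exact h3
  let s'' : Localization.Away y →+* Localization.Away (s₀.hom y) :=
    IsLocalization.Away.map (Localization.Away y) (Localization.Away (s₀.hom y)) s₀.hom y
  let t'' : Localization.Away y →+* Localization.Away (s₀.hom y) :=
    IsLocalization.Away.lift y (g := (algebraMap B (Localization.Away (s₀.hom y))).comp t₀.hom) hunit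
  have hs'' : ∀ α, s'' (algebraMap A (Localization.Away y) α) =
      algebraMap B (Localization.Away (s₀.hom y)) (s₀.hom α) := fun α => IsLocalization.map_eq _ α
  have ht'' : ∀ α, t'' (algebraMap A (Localization.Away y) α) =
      algebraMap B (Localization.Away (s₀.hom y)) (t₀.hom α) := fun α =>
    IsLocalization.Away.lift_eq y hunit α
  obtain ⟨hfin'', b, hb⟩ := exists_basis_localized s₀.hom t₀.hom a x y (e b') hyx hsp hrk s'' t''
    hs'' ht''
  exact mem_schematicSet_of_local_data str p hp s t sq i s₀ t₀ hs₀ ht₀ y (primePt u) hy s'' t''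
    hs'' ht'' hfin'' a b hb

/-- **Local representability of a quotient by a finite étale equivalence relation on an affine
scheme** (Stacks 03BM, pointwise form): if `p : h_{Spec A} ⟶ X` is representable, finite and étale,
every point in the image of `p` lies in the schematic locus of `X`. -/
theorem mem_schematicSet_of_finite_etale_affine_chart {X : Sp S}
    {A : CommRingCat.{u}} (str : Spec A ⟶ S) (p : (yon S).obj (Over.mk str) ⟶ X)
    (hp : RepWith @Etale p) (hf : RepWith @IsFinite p) (u : ↥(Spec A)) :
    Points.ofPt p u ∈ schematicSet X := by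
  have hrep := hp.rep
  exact mem_schematicSet_of_kernelPair_finite str p hp (hrep.snd p) (hrep.fst' p)
    (hrep.isPullback' p) (hf.property p _ _ (hrep.isPullback' p)) u

end Groth.Agent.H3.FinQuot
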