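import Mathlib

/-!
# Quotient of an affine scheme by a free equivalence relation: the algebra (helper3)

The "cocycle" argument (Stacks 03BM, SGA 3 V Thm 4.1, local case).
-/

set_option autoImplicit false
universe u v w

open TensorProduct

namespace Groth.Agent.H3.FinQuot

variable {A : Type u} {B : Type v} [CommRing A] [CommRing B]

/-- `B` viewed as an `A`-algebra through a ring homomorphism `f`. -/
def Via (_ : A →+* B) : Type v := B

instance (f : A →+* B) : CommRing (Via f) := inferInstanceAs (CommRing B)
instance (f : A →+* B) : Algebra A (Via f) := f.toAlgebra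

/-- the identity map `B → Via f`. -/
def toVia (f : A →+* B) : B ≃+* Via f := RingEquiv.refl B

lemma via_smul_def (f : A →+* B) (r : A) (y : B) : r • toVia f y = toVia f (f r * y) := by
  rw [Algebra.smul_def]; rfl

lemma via_algebraMap (f : A →+* B) (r : A) : algebraMap A (Via f) r = toVia f (f r) := rfl

section Main

variable (s t : A →+* B) (e : B →+* A) (hes : ∀ x, e (s x) = x) (het : ∀ x, e (t x) = x)
variable (c : B →+* Via s ⊗[A] Via t)
variable (hct : ∀ x : A, c (t x) = toVia s (t x) ⊗ₜ[A] (1 : Via t))
variable (hcs : ∀ x : A, c (s x) = (1 : Via s) ⊗ₜ[A] toVia t (s x))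
variable {ι : Type w} (a : ι → A) (b : Module.Basis ι A (Via s)) (hb : ∀ i, b i = toVia s (t (a i)))

include hb in
lemma t_eq_sum (x : A) : (t x : B) =
    (b.repr (toVia s (t x))).sum fun j r => s r * t (a j) := by
  classical
  set l := b.repr (toVia s (t x)) with hl
  have := b.linearCombination_repr (toVia s (t x))
  rw [Finsupp.linearCombination_apply] at this
  rw [← hl] at this
  apply (toVia s).injective
  rw [← this]
  simp only [Finsupp.sum, map_sum]
  refine Finset.sum_congr rfl fun j _ => ?_
  rw [hb, via_smul_def]

include hct hcs hb in
/-- The coordinates of `t x` in the basis `t (a i)` are invariant. -/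
theorem repr_mem_eqLocus (x : A) (i : ι) : s (b.repr (toVia s (t x)) i) =
    t (b.repr (toVia s (t x)) i) := by
  classical
  set l := b.repr (toVia s (t x)) with hl
  have h1 := t_eq_sum s t a b hb x
  rw [← hl] at h1
  let E := TensorProduct.equivFinsuppOfBasisLeft (N := Via t) b
  have h3 : E (c (t x)) i = toVia t (t (l i)) := by
    rw [hct, TensorProduct.equivFinsuppOfBasisLeft_apply_tmul_apply, ← map_one (toVia t),
      via_smul_def, mul_one]
  have h4 : E (c (t x)) i = toVia t (s (l i)) := by
    rw [h1]
    simp only [Finsupp.sum, map_sum, map_mul, hct, hcs]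
    rw [Finsupp.finsetSum_apply]
    simp only [Algebra.TensorProduct.tmul_mul_tmul, one_mul, mul_one]
    have : ∀ j ∈ l.support, E (toVia s (t (a j)) ⊗ₜ[A] toVia t (s (l j))) i =
        if j = i then toVia t (s (l j)) else 0 := by
      intro j _
      rw [TensorProduct.equivFinsuppOfBasisLeft_apply_tmul_apply, ← hb, b.repr_self,
        Finsupp.single_apply]
      split_ifs <;> simp
    rw [Finset.sum_congr rfl this, Finset.sum_ite_eq']
    split_ifs with hi
    · rfl
    · rw [Finsupp.notMem_support_iff.1 hi, map_zero, map_zero]
  exact (toVia t).injective (h4.symm.trans h3)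

include hes het hb in
/-- expansion of `x` in terms of the `a i`. -/
theorem eq_sum (x : A) : x = (b.repr (toVia s (t x))).sum fun j r => r * a j := by
  have := congrArg e (t_eq_sum s t a b hb x)
  rw [het] at this
  conv_lhs => rw [this]
  simp only [Finsupp.sum, map_sum, map_mul, hes, het]

/-- The invariant subring. -/
abbrev inv : Subring A := RingHom.eqLocus s t

include hb in
/-- linear independence over the invariants -/
theorem linearIndependent_inv : LinearIndependent (inv s t) a := by
  classical
  rw [linearIndependent_iff]
  intro l hl
  rw [Finsupp.linearCombination_apply] at hl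
  -- apply t
  have h1 : (l.sum fun j r => (r : A) • b j) = 0 := by
    have h := congrArg (fun y => toVia s (t y)) hl
    simp only [Finsupp.sum, map_sum, map_zero] at h ⊢
    rw [← h]
    refine Finset.sum_congr rfl fun j _ => ?_
    rw [hb, via_smul_def]
    congr 1
    change s (l j : A) * t (a j) = t ((l j : A) * a j)
    rw [map_mul, (l j).2]
  have h2 : (Finsupp.linearCombination A b) (l.mapRange (fun r : inv s t => (r : A)) rfl) = 0 := by
    rw [Finsupp.linearCombination_apply, Finsupp.sum_mapRange_index (by simp)]
    exact h1
  have h3 := (linearIndependent_iff.1 b.linearIndependent) _ h2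
  ext j
  have := DFunLike.congr_fun h3 j
  simpa using this

include hes het hct hcs hb in
theorem span_inv_eq_top : Submodule.span (inv s t) (Set.range a) = ⊤ := by
  classical
  rw [eq_top_iff]
  rintro x -
  rw [eq_sum s t e hes het a b hb x]
  refine Submodule.sum_mem _ fun j _ => ?_
  have hm : b.repr (toVia s (t x)) j ∈ inv s t :=
    repr_mem_eqLocus s t c hct hcs a b hb x j
  change (b.repr (toVia s (t x)) j) * a j ∈ _
  have : (b.repr (toVia s (t x)) j) * a j =
      (⟨_, hm⟩ : inv s t) • a j := rfl
  rw [this]
  exact Submodule.smul_mem _ _ (Submodule.subset_span ⟨j, rfl⟩)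

include hes het hct hcs hb in
/-- `A` is free over the invariants with basis `a`. -/
noncomputable def basisInv : Module.Basis ι (inv s t) A :=
  Module.Basis.mk (linearIndependent_inv s t a b hb)
    (span_inv_eq_top s t e hes het c hct hcs a b hb).ge


/-- `B` as an algebra over the invariants. -/
@[reducible] def algInv : Algebra (inv s t) B := (s.comp (inv s t).subtype).toAlgebra

/-- `s` as an algebra map over the invariants -/
def sAlg : letI := algInv s t; A →ₐ[inv s t] B :=
  letI := algInv s t
  { s with commutes' := fun _ => rfl }

/-- `t` as an algebra map over the invariants -/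
def tAlg : letI := algInv s t; A →ₐ[inv s t] B :=
  letI := algInv s t
  { t with commutes' := fun r => r.2.symm }

/-- the canonical map `A ⊗_C A → B`. -/
noncomputable def tensorToB : letI := algInv s t; A ⊗[inv s t] A →ₐ[inv s t] B :=
  letI := algInv s t
  Algebra.TensorProduct.productMap (sAlg s t) (tAlg s t)

lemma tensorToB_tmul (x y : A) : tensorToB s t (x ⊗ₜ y) = s x * t y := by
  letI := algInv s t
  simp [tensorToB, sAlg, tAlg]

include hes het hct hcs hb in
theorem tensorToB_bijective : Function.Bijective (tensorToB s t) := by
  classical
  letI := algInv s t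
  let bC := basisInv s t e hes het c hct hcs a b hb
  let bT : Module.Basis ι A (A ⊗[inv s t] A) := Algebra.TensorProduct.basis A bC
  -- the `A`-linear version
  let φ : A ⊗[inv s t] A →ₗ[A] Via s :=
    { toFun := fun z => toVia s (tensorToB s t z)
      map_add' := fun z w => by simp
      map_smul' := fun r z => by
        simp only [RingHom.id_apply]
        rw [via_smul_def]
        congr 1
        induction z using TensorProduct.induction_on with
        | zero => simp
        | tmul x y =>
          rw [TensorProduct.smul_tmul', tensorToB_tmul, tensorToB_tmul, smul_eq_mul, map_mul,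
            mul_assoc]
        | add z w hz hw => rw [smul_add, map_add, map_add, hz, hw, mul_add] }
  have hφ : φ = (bT.equiv b (Equiv.refl ι)).toLinearMap := by
    apply bT.ext
    intro i
    simp only [LinearEquiv.coe_coe, Module.Basis.equiv_apply, Equiv.refl_apply]
    change toVia s (tensorToB s t (bT i)) = b i
    rw [Algebra.TensorProduct.basis_apply, tensorToB_tmul, map_one, one_mul, hb]
    congr 2
    exact Module.Basis.mk_apply _ _ i
  have hbij : Function.Bijective φ := by
    rw [hφ]
    exact (bT.equiv b (Equiv.refl ι)).bijective
  exact ⟨fun z w h => hbij.1 (congrArg (toVia s) h),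
    fun y => by obtain ⟨z, hz⟩ := hbij.2 (toVia s y); exact ⟨z, (toVia s).injective hz⟩⟩

end Main

end Groth.Agent.H3.FinQuot
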