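import Mathlib

/-!
# A norm for finite projective algebras (helper3)

For a finite projective `A`-module `M` presented as a retract `f ∘ g = id` of a finite free module,
every endomorphism `φ` of `M` extends to the free module (by the identity on `ker f`), and the
determinant of the extension plays the role of `det φ`.
-/

set_option autoImplicit false
universe u v

open TensorProduct

namespace Groth.Agent.H3.FinQuot

section PDet

variable {A : Type u} [CommRing A] {M : Type v} [AddCommGroup M] [Module A M]
variable {F : Type*} [AddCommGroup F] [Module A F] (f : F →ₗ[A] M) (g : M →ₗ[A] F)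

/-- extension of an endomorphism of the retract `M` to the free module -/
def extEnd (φ : M →ₗ[A] M) : F →ₗ[A] F :=
  g ∘ₗ φ ∘ₗ f + (LinearMap.id - g ∘ₗ f)

variable {f g}

lemma f_comp_extEnd (hfg : f ∘ₗ g = LinearMap.id) (φ : M →ₗ[A] M) :
    f ∘ₗ extEnd f g φ = φ ∘ₗ f := by
  ext v
  simp only [extEnd, LinearMap.comp_apply, LinearMap.add_apply, LinearMap.sub_apply,
    LinearMap.id_apply, map_add, map_sub]
  have h : ∀ m, f (g m) = m := fun m => by
    have := congrArg (fun l => l m) hfg
    simpa using this
  rw [h, h]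
  simp

lemma extEnd_injective_iff (hfg : f ∘ₗ g = LinearMap.id) (φ : M →ₗ[A] M) :
    Function.Injective (extEnd f g φ) ↔ Function.Injective φ := by
  have h : ∀ m, f (g m) = m := fun m => by
    have := congrArg (fun l => l m) hfg
    simpa using this
  have hfe : ∀ v, f (extEnd f g φ v) = φ (f v) := fun v => by
    have := congrArg (fun l => l v) (f_comp_extEnd hfg φ)
    simpa using this
  constructor
  · intro hinj
    rw [← LinearMap.ker_eq_bot, LinearMap.ker_eq_bot']
    intro w hw
    have : extEnd f g φ (g w) = 0 := by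
      simp only [extEnd, LinearMap.comp_apply, LinearMap.add_apply, LinearMap.sub_apply,
        LinearMap.id_apply, h, hw, map_zero, sub_self, add_zero]
    have h2 : g w = 0 := by
      apply hinj
      rw [this, map_zero]
    rw [← h w, h2, map_zero]
  · intro hinj
    rw [← LinearMap.ker_eq_bot, LinearMap.ker_eq_bot']
    intro v hv
    have h1 : φ (f v) = 0 := by rw [← hfe, hv, map_zero]
    have h2 : f v = 0 := by
      apply hinj
      rw [h1, map_zero]
    have h3 : extEnd f g φ v = v := by
      simp only [extEnd, LinearMap.comp_apply, LinearMap.add_apply, LinearMap.sub_apply,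
        LinearMap.id_apply, h2, map_zero, sub_zero, zero_add]
    rw [← h3, hv]

variable (f g)

/-- the "determinant" of an endomorphism of a retract of a finite free module -/
noncomputable def pdet (φ : M →ₗ[A] M) : A := LinearMap.det (extEnd f g φ)

variable {f g}

/-- `φ` divides `pdet φ` -/
lemma exists_comp_eq_pdet_smul {n : ℕ} {f : (Fin n → A) →ₗ[A] M} {g : M →ₗ[A] (Fin n → A)}
    (hfg : f ∘ₗ g = LinearMap.id) (φ : M →ₗ[A] M) :
    ∃ ψ : M →ₗ[A] M, φ ∘ₗ ψ = pdet f g φ • LinearMap.id := by
  classical
  set Ψ := extEnd f g φ with hΨ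
  let Mx := LinearMap.toMatrix' Ψ
  let Ψ' : (Fin n → A) →ₗ[A] (Fin n → A) := Matrix.toLin' Mx.adjugate
  have h1 : Ψ ∘ₗ Ψ' = pdet f g φ • LinearMap.id := by
    have : Ψ = Matrix.toLin' Mx := (Matrix.toLin'_toMatrix' Ψ).symm
    rw [this]
    change Matrix.toLin' Mx ∘ₗ Matrix.toLin' Mx.adjugate = _
    rw [← Matrix.toLin'_mul, Matrix.mul_adjugate, map_smul, Matrix.toLin'_one]
    congr 1
    change Mx.det = LinearMap.det Ψ
    rw [LinearMap.det_toMatrix']
  refine ⟨f ∘ₗ Ψ' ∘ₗ g, ?_⟩
  have h : ∀ m, f (g m) = m := fun m => by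
    have := congrArg (fun l => l m) hfg
    simpa using this
  have hfe : ∀ v, f (Ψ v) = φ (f v) := fun v => by
    have := congrArg (fun l => l v) (f_comp_extEnd hfg φ)
    simpa using this
  ext m
  have h2 := congrArg (fun l => l (g m)) h1
  simp only [LinearMap.comp_apply, LinearMap.smul_apply, LinearMap.id_apply] at h2 ⊢
  rw [← hfe, h2, map_smul, h]

/-- Over a field, `pdet φ` is nonzero after base change iff `φ` is injective after base change. -/
lemma algebraMap_pdet_ne_zero_iff [Module.Free A F] [Module.Finite A F]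
    (hfg : f ∘ₗ g = LinearMap.id) (φ : M →ₗ[A] M)
    (κ : Type*) [Field κ] [Algebra A κ] :
    algebraMap A κ (pdet f g φ) ≠ 0 ↔ Function.Injective (φ.baseChange κ) := by
  have hfgκ : f.baseChange κ ∘ₗ g.baseChange κ = LinearMap.id := by
    rw [← LinearMap.baseChange_comp, hfg, LinearMap.baseChange_id]
  have hext : (extEnd f g φ).baseChange κ =
      extEnd (f.baseChange κ) (g.baseChange κ) (φ.baseChange κ) := by
    simp only [extEnd, LinearMap.baseChange_add, LinearMap.baseChange_sub, LinearMap.baseChange_comp,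
      LinearMap.baseChange_id]
  rw [pdet, ← LinearMap.det_baseChange, hext, ← extEnd_injective_iff hfgκ, Ne,
    LinearMap.det_eq_zero_iff_ker_ne_bot, not_not, LinearMap.ker_eq_bot]

end PDet

end Groth.Agent.H3.FinQuot

namespace Groth.Agent.H3.FinQuot

section ANorm

variable {A : Type u} [CommRing A] {B : Type v} [CommRing B] [Algebra A B]
variable {n : ℕ} (f : (Fin n → A) →ₗ[A] B) (g : B →ₗ[A] (Fin n → A))

/-- the norm of an element of a finite projective algebra (w.r.t. a chosen presentation as a
retract of a free module) -/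
noncomputable def anorm (b : B) : A := pdet f g (Algebra.lmul A B b)

variable {f g}

lemma exists_mul_eq_anorm (hfg : f ∘ₗ g = LinearMap.id) (b : B) :
    ∃ b' : B, b * b' = algebraMap A B (anorm f g b) := by
  obtain ⟨ψ, hψ⟩ := exists_comp_eq_pdet_smul hfg (Algebra.lmul A B b)
  refine ⟨ψ 1, ?_⟩
  have := congrArg (fun l => l 1) hψ
  simp only [LinearMap.comp_apply, LinearMap.smul_apply, LinearMap.id_apply] at this
  rw [Algebra.algebraMap_eq_smul_one]
  exact this

lemma anorm_notMem_iff (hfg : f ∘ₗ g = LinearMap.id) [Module.Finite A B] (b : B) (q : Ideal A)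
    [q.IsPrime] :
    anorm f g b ∉ q ↔ ∀ r : Ideal B, r.IsPrime → r.comap (algebraMap A B) = q → b ∉ r := by
  have h1 : anorm f g b ∉ q ↔ algebraMap A q.ResidueField (anorm f g b) ≠ 0 := by
    rw [Ne, Ideal.algebraMap_residueField_eq_zero]
  rw [h1, anorm, algebraMap_pdet_ne_zero_iff hfg, Algebra.baseChange_lmul]
  have hart : IsArtinianRing (q.Fiber B) := IsArtinianRing.of_finite q.ResidueField _
  constructor
  · intro hinj r hr hrq hbr
    have hlo : r.LiesOver q := ⟨hrq.symm⟩
    let P : PrimeSpectrum (q.Fiber B) := PrimeSpectrum.primesOverOrderIsoFiber A B q ⟨r, hr, hlo⟩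
    have hP : P.asIdeal.comap Algebra.TensorProduct.includeRight = r := by
      have := (PrimeSpectrum.primesOverOrderIsoFiber A B q).symm_apply_apply ⟨r, hr, hlo⟩
      have h2 := congrArg Subtype.val this
      rw [PrimeSpectrum.coe_primesOverOrderIsoFiber_symm_apply] at h2
      exact h2
    have hmem : (1 : q.ResidueField) ⊗ₜ[A] b ∈ P.asIdeal := by
      have : b ∈ P.asIdeal.comap Algebra.TensorProduct.includeRight := by rw [hP]; exact hbr
      exact this
    have hnzd : (1 : q.ResidueField) ⊗ₜ[A] b ∈ nonZeroDivisors (q.Fiber B) := by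
      rw [mem_nonZeroDivisors_iff_right]
      intro z hz
      apply hinj
      rw [map_zero]
      change (1 ⊗ₜ[A] b) * z = 0
      rw [mul_comm]; exact hz
    have hu := IsArtinianRing.isUnit_of_mem_nonZeroDivisors hnzd
    exact P.2.ne_top (Ideal.eq_top_of_isUnit_mem _ hmem hu)
  · intro h
    have hu : IsUnit ((1 : q.ResidueField) ⊗ₜ[A] b : q.Fiber B) := by
      by_contra hnu
      obtain ⟨I, hI, hbI⟩ := exists_max_ideal_of_mem_nonunits hnu
      let P : PrimeSpectrum (q.Fiber B) := ⟨I, hI.isPrime⟩
      let r := (PrimeSpectrum.primesOverOrderIsoFiber A B q).symm P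
      have hr : (r : Ideal B) = I.comap Algebra.TensorProduct.includeRight :=
        PrimeSpectrum.coe_primesOverOrderIsoFiber_symm_apply q P
      have hmem : b ∈ (r : Ideal B) := by rw [hr]; exact hbI
      exact h r.1 r.2.1 r.2.2.over.symm hmem
    intro z w hzw
    have : (1 ⊗ₜ[A] b : q.Fiber B) * z = (1 ⊗ₜ[A] b) * w := hzw
    exact hu.mul_left_cancel this

end ANorm

end Groth.Agent.H3.FinQuot
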