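import Mathlib
import Groth.Agent.Lib.Helper3.FinQuot.Cocycle
import Groth.Agent.Lib.Helper3.FinQuot.Norm

set_option autoImplicit false
universe u v w

open TensorProduct

namespace Groth.Agent.H3.FinQuot

/-- If a finite module becomes zero after base change to a field `L`, then the kernel of
`A → L` is not in its support. -/
lemma not_mem_support_of_subsingleton_tensor {A : Type u} [CommRing A] {Q : Type v}
    [AddCommGroup Q] [Module A Q] [Module.Finite A Q] (L : Type w) [Field L] [Algebra A L]
    (q : PrimeSpectrum A) (hq : q.asIdeal = RingHom.ker (algebraMap A L))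
    (h : Subsingleton (L ⊗[A] Q)) : q ∉ Module.support A Q := by
  intro hmem
  rw [Module.mem_support_iff_nontrivial_residueField_tensorProduct] at hmem
  let φ : q.asIdeal.ResidueField →+* L := Ideal.ResidueField.lift q.asIdeal (algebraMap A L)
    (by rw [hq]) (by
      intro x hx
      rw [Submonoid.mem_comap, IsUnit.mem_submonoid_iff, isUnit_iff_ne_zero]
      intro h0
      apply hx
      rw [hq]
      exact h0)
  letI : Algebra q.asIdeal.ResidueField L := φ.toAlgebra
  have : IsScalarTower A q.asIdeal.ResidueField L := IsScalarTower.of_algebraMap_eq (fun x => by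
    rw [RingHom.algebraMap_toAlgebra]
    exact (Ideal.ResidueField.lift_algebraMap _ _ _ _ x).symm)
  have e := TensorProduct.AlgebraTensorModule.cancelBaseChange A q.asIdeal.ResidueField L L Q
  have hs : Subsingleton (L ⊗[q.asIdeal.ResidueField] (q.asIdeal.ResidueField ⊗[A] Q)) :=
    e.toEquiv.subsingleton
  rw [Module.FaithfullyFlat.subsingleton_tensorProduct_iff_right] at hs
  exact not_subsingleton _ hs


section OptionP

variable {A : Type u} {B : Type u} [CommRing A] [CommRing B]
variable (s t : A →+* B)
variable (c : B →+* Via s ⊗[A] Via t)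
variable (hct : ∀ x : A, c (t x) = toVia s (t x) ⊗ₜ[A] (1 : Via t))
variable (hcs : ∀ x : A, c (s x) = (1 : Via s) ⊗ₜ[A] toVia t (s x))
variable {ι : Type} [Fintype ι] (a : ι → A)

/-- the `A`-span of the `t (a i)` in `B` (with `A` acting through `s`) -/
def spanT : Submodule A (Via s) := Submodule.span A (Set.range fun i => toVia s (t (a i)))

include hct hcs in
/-- key identity: if `s f * t α` lies in the span of the `t (a i)`, then
`s f ⊗ t α` is a combination of the `_ ⊗ t (a i)` in `B_t ⊗ B_s`. -/
lemma exists_tmul_eq_sum (f α : A) (hf : toVia s (s f * t α) ∈ spanT s t a) :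
    ∃ μ : ι → A, toVia t (s f) ⊗ₜ[A] toVia s (t α) =
      ∑ i, toVia t (s (μ i)) ⊗ₜ[A] toVia s (t (a i)) := by
  obtain ⟨μ, hμ⟩ := (Submodule.mem_span_range_iff_exists_fun A).1 hf
  refine ⟨μ, ?_⟩
  have h1 : s f * t α = ∑ i, s (μ i) * t (a i) := by
    apply (toVia s).injective
    rw [← hμ, map_sum]
    refine Finset.sum_congr rfl fun i _ => ?_
    rw [via_smul_def]
  have h2 := congrArg c h1
  rw [map_mul, map_sum, hcs, hct] at h2
  simp only [map_mul, hcs, hct, Algebra.TensorProduct.tmul_mul_tmul, one_mul, mul_one] at h2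
  have h3 := congrArg (Algebra.TensorProduct.comm A (Via s) (Via t)) h2
  rw [map_sum] at h3
  simpa using h3

variable (hspan : Submodule.span A (Set.range fun α : A => toVia s (t α)) = ⊤)

include hct hcs hspan in
/-- **Translation invariance, module form**: if `f` conducts `B_s` into the span of the `t (a i)`,
then `s f` kills `B_t ⊗_A (B_s / span)`. -/
lemma tmul_mkQ_eq_zero (f : A) (hf : ∀ b : B, toVia s (s f * b) ∈ spanT s t a)
    (y : Via t) (b : Via s) :
    (toVia t (s f) * y) ⊗ₜ[A] ((spanT s t a).mkQ b) = 0 := by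
  have hb : b ∈ Submodule.span A (Set.range fun α : A => toVia s (t α)) := by
    rw [hspan]; trivial
  induction hb using Submodule.span_induction with
  | mem x hx =>
    obtain ⟨α, rfl⟩ := hx
    obtain ⟨μ, hμ⟩ := exists_tmul_eq_sum s t c hct hcs a f α (hf (t α))
    have h1 := congrArg (fun z => (y ⊗ₜ[A] (1 : Via s)) * z) hμ
    simp only [Algebra.TensorProduct.tmul_mul_tmul, one_mul, Finset.mul_sum] at h1
    have h2 := congrArg (LinearMap.lTensor (Via t) (spanT s t a).mkQ) h1
    simp only [LinearMap.lTensor_tmul, map_sum] at h2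
    rw [mul_comm, h2]
    refine Finset.sum_eq_zero fun i _ => ?_
    have : (spanT s t a).mkQ (toVia s (t (a i))) = 0 := by
      rw [Submodule.mkQ_apply, Submodule.Quotient.mk_eq_zero]
      exact Submodule.subset_span ⟨i, rfl⟩
    rw [this, tmul_zero]
  | zero => simp
  | add x z _ _ hx hz => rw [map_add, tmul_add, hx, hz, add_zero]
  | smul r x _ hx => rw [map_smul, tmul_smul, hx, smul_zero]

include hct hcs hspan in
/-- **Translation invariance of the spanning locus.** -/
lemma not_mem_support_comap_t [Module.Finite A (Via s)] (r : PrimeSpectrum B)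
    (h : PrimeSpectrum.comap s r ∉ Module.support A (Via s ⧸ spanT s t a)) :
    PrimeSpectrum.comap t r ∉ Module.support A (Via s ⧸ spanT s t a) := by
  rw [Module.mem_support_iff_of_finite, SetLike.not_le_iff_exists] at h
  obtain ⟨f, hfann, hfr⟩ := h
  have hf : ∀ b : B, toVia s (s f * b) ∈ spanT s t a := by
    intro b
    have := Module.mem_annihilator.1 hfann ((spanT s t a).mkQ (toVia s b))
    rw [← map_smul, Submodule.mkQ_apply, Submodule.Quotient.mk_eq_zero, via_smul_def] at this
    exact this
  have hsf : s f ∉ r.asIdeal := hfr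
  let L := r.asIdeal.ResidueField
  let ev : B →+* L := algebraMap B L
  letI : Algebra A L := (ev.comp t).toAlgebra
  have hev : ev (s f) ≠ 0 := by
    intro h0
    exact hsf ((Ideal.algebraMap_residueField_eq_zero).1 h0)
  apply not_mem_support_of_subsingleton_tensor L
  · ext x
    rw [RingHom.mem_ker, RingHom.algebraMap_toAlgebra, RingHom.comp_apply,
      Ideal.algebraMap_residueField_eq_zero]
    rfl
  · refine ⟨fun z w => ?_⟩
    suffices H : ∀ z : L ⊗[A] (Via s ⧸ spanT s t a), z = 0 by rw [H z, H w]
    intro z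
    induction z using TensorProduct.induction_on with
    | zero => rfl
    | add x y hx hy => rw [hx, hy, add_zero]
    | tmul k q =>
      obtain ⟨b, rfl⟩ := (spanT s t a).mkQ_surjective q
      let ψ : Via t →ₗ[A] L :=
        { toFun := fun y => k * (ev (s f))⁻¹ * ev ((toVia t).symm y)
          map_add' := fun y z => by simp [mul_add]
          map_smul' := fun x y => by
            simp only [RingHom.id_apply]
            obtain ⟨y, rfl⟩ := (toVia t).surjective y
            rw [via_smul_def, RingEquiv.symm_apply_apply, RingEquiv.symm_apply_apply, map_mul,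
              Algebra.smul_def, RingHom.algebraMap_toAlgebra, RingHom.comp_apply]
            ring }
      have h0 := tmul_mkQ_eq_zero s t c hct hcs a hspan f hf 1 b
      have h1 := congrArg (ψ.rTensor (Via s ⧸ spanT s t a)) h0
      rw [LinearMap.rTensor_tmul, map_zero, mul_one] at h1
      have h2 : ψ (toVia t (s f)) = k := by
        change k * (ev (s f))⁻¹ * ev ((toVia t).symm (toVia t (s f))) = k
        rw [RingEquiv.symm_apply_apply, mul_assoc, inv_mul_cancel₀ hev, mul_one]
      rw [h2] at h1
      exact h1

end OptionP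

section ChooseBasis

variable {A : Type u} {B : Type u} [CommRing A] [CommRing B]
variable (s t : A →+* B)
variable (hspan : Submodule.span A (Set.range fun α : A => toVia s (t α)) = ⊤)

include hspan in
/-- the fibre of `B_s` at a prime is spanned by the images of `t α`. -/
lemma span_one_tmul_eq_top (q : PrimeSpectrum A) :
    Submodule.span q.asIdeal.ResidueField
      (Set.range fun α : A => (1 : q.asIdeal.ResidueField) ⊗ₜ[A] toVia s (t α)) = ⊤ := by
  rw [eq_top_iff]
  rintro z -
  induction z using TensorProduct.induction_on with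
  | zero => exact Submodule.zero_mem _
  | add x y hx hy => exact Submodule.add_mem _ hx hy
  | tmul k b =>
    have hb : b ∈ Submodule.span A (Set.range fun α : A => toVia s (t α)) := by
      rw [hspan]; trivial
    induction hb using Submodule.span_induction with
    | mem x hx =>
      obtain ⟨α, rfl⟩ := hx
      have : k ⊗ₜ[A] toVia s (t α) = k • ((1 : q.asIdeal.ResidueField) ⊗ₜ[A] toVia s (t α)) := by
        rw [TensorProduct.smul_tmul', smul_eq_mul, mul_one]
      rw [this]
      exact Submodule.smul_mem _ _ (Submodule.subset_span ⟨α, rfl⟩)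
    | zero => rw [tmul_zero]; exact Submodule.zero_mem _
    | add x z _ _ hx hz => rw [tmul_add]; exact Submodule.add_mem _ hx hz
    | smul r x _ hx =>
      rw [tmul_smul]
      have : r • (k ⊗ₜ[A] x) = (algebraMap A q.asIdeal.ResidueField r) • (k ⊗ₜ[A] x) := by
        rw [algebraMap_smul]
      rw [this]
      exact Submodule.smul_mem _ _ hx

include hspan in
/-- choose `a₁ … aₙ` whose images under `t` form a basis of the fibre at `q` -/
lemma exists_fibre_basis [Module.Finite A (Via s)] (q : PrimeSpectrum A) :
    ∃ (n : ℕ) (a : Fin n → A),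
      n = Module.finrank q.asIdeal.ResidueField (q.asIdeal.ResidueField ⊗[A] Via s) ∧
      Submodule.span q.asIdeal.ResidueField
        (Set.range fun i => (1 : q.asIdeal.ResidueField) ⊗ₜ[A] toVia s (t (a i))) = ⊤ := by
  classical
  obtain ⟨b, hbs, hspanb, hli⟩ := exists_linearIndependent q.asIdeal.ResidueField
    (Set.range fun α : A => (1 : q.asIdeal.ResidueField) ⊗ₜ[A] toVia s (t α))
  have hsp : ⊤ ≤ Submodule.span q.asIdeal.ResidueField
      (Set.range (Subtype.val : b → q.asIdeal.ResidueField ⊗[A] Via s)) := by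
    rw [Subtype.range_coe, hspanb, span_one_tmul_eq_top s t hspan q]
  let bb : Module.Basis b q.asIdeal.ResidueField (q.asIdeal.ResidueField ⊗[A] Via s) :=
    Module.Basis.mk hli hsp
  have hfin : Finite b := Module.Finite.finite_basis bb
  have : Fintype b := Fintype.ofFinite b
  let n := Fintype.card b
  let eq : Fin n ≃ b := (Fintype.equivFin b).symm
  refine ⟨n, fun i => (hbs (eq i).2).choose, ?_, ?_⟩
  · rw [Module.finrank_eq_card_basis bb]
  · have : (fun i : Fin n => (1 : q.asIdeal.ResidueField) ⊗ₜ[A]
        toVia s (t ((hbs (eq i).2).choose))) =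
        fun i => ((eq i : b) : q.asIdeal.ResidueField ⊗[A] Via s) := by
      funext i
      exact (hbs (eq i).2).choose_spec
    rw [this, eq_top_iff]
    refine hsp.trans (Submodule.span_mono ?_)
    rintro _ ⟨x, rfl⟩
    exact ⟨eq.symm x, by simp⟩

variable {ι : Type} [Fintype ι] (a : ι → A)

/-- if the `t (a i)` span the fibre at `q`, then `q` is not in the support of the cokernel -/
lemma not_mem_support_of_span_eq_top [Module.Finite A (Via s)] (q : PrimeSpectrum A)
    (h : Submodule.span q.asIdeal.ResidueField
      (Set.range fun i => (1 : q.asIdeal.ResidueField) ⊗ₜ[A] toVia s (t (a i))) = ⊤) :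
    q ∉ Module.support A (Via s ⧸ spanT s t a) := by
  rw [Module.mem_support_iff_nontrivial_residueField_tensorProduct, not_nontrivial_iff_subsingleton]
  have hzero : (spanT s t a).mkQ.baseChange q.asIdeal.ResidueField = 0 := by
    apply LinearMap.ext_on_range h
    intro i
    rw [LinearMap.baseChange_tmul, LinearMap.zero_apply]
    have : (spanT s t a).mkQ (toVia s (t (a i))) = 0 := by
      rw [Submodule.mkQ_apply, Submodule.Quotient.mk_eq_zero]
      exact Submodule.subset_span ⟨i, rfl⟩
    rw [this, tmul_zero]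
  refine ⟨fun z w => ?_⟩
  suffices H : ∀ z : q.asIdeal.ResidueField ⊗[A] (Via s ⧸ spanT s t a), z = 0 by rw [H z, H w]
  intro z
  induction z using TensorProduct.induction_on with
  | zero => rfl
  | add x y hx hy => rw [hx, hy, add_zero]
  | tmul k x =>
    obtain ⟨b, rfl⟩ := (spanT s t a).mkQ_surjective x
    rw [← LinearMap.baseChange_tmul, hzero, LinearMap.zero_apply]

end ChooseBasis

/-- prime avoidance for a finite set of points of the spectrum -/
lemma exists_mem_forall_notMem {R : Type*} [CommRing R] (I : Ideal R)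
    (O : Finset (PrimeSpectrum R)) (h : ∀ q ∈ O, ¬ I ≤ q.asIdeal) :
    ∃ x ∈ I, ∀ q ∈ O, x ∉ q.asIdeal := by
  classical
  by_contra hcon
  have hcon' : ∀ x ∈ I, ∃ q ∈ O, x ∈ q.asIdeal := by
    intro x hx
    by_contra h'
    exact hcon ⟨x, hx, fun q hq hxq => h' ⟨q, hq, hxq⟩⟩
  rcases O.eq_empty_or_nonempty with hO | ⟨q₀, hq₀⟩
  · obtain ⟨q, hq, -⟩ := hcon' 0 I.zero_mem
    rw [hO] at hq
    exact absurd hq (Finset.notMem_empty q)
  · have hsub : ((I : Ideal R) : Set R) ⊆ ⋃ q ∈ (↑O : Set (PrimeSpectrum R)),
        ((fun q : PrimeSpectrum R => q.asIdeal) q : Set R) := by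
      intro x hx
      obtain ⟨q', hq', hxq'⟩ := hcon' x hx
      exact Set.mem_biUnion (Finset.mem_coe.2 hq') hxq'
    have key := (Ideal.subset_union_prime (R := R) (s := O)
      (f := fun q : PrimeSpectrum R => q.asIdeal) q₀ q₀ (fun i _ _ _ => i.2)).1 hsub
    obtain ⟨q', hq', hle⟩ := key
    exact h q' hq' hle


section Main

variable {A : Type u} {B : Type u} [CommRing A] [CommRing B]
variable (s t : A →+* B)
variable (c : B →+* Via s ⊗[A] Via t)
variable (hct : ∀ x : A, c (t x) = toVia s (t x) ⊗ₜ[A] (1 : Via t))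
variable (hcs : ∀ x : A, c (s x) = (1 : Via s) ⊗ₜ[A] toVia t (s x))
variable (hspan : Submodule.span A (Set.range fun α : A => toVia s (t α)) = ⊤)

include hct hcs hspan in
/-- **The local step**: around a prime `q₁` of `A` there is an "invariant" principal open `D(y)`
on which the `t (a i)` generate `B_s` and the rank of `B_s` is `n`. -/
theorem exists_local_step [Module.Finite A (Via s)] [Module.Projective A (Via s)]
    (hrank : ∀ r : PrimeSpectrum B, Module.rankAtStalk (Via s) (PrimeSpectrum.comap s r) =
      Module.rankAtStalk (Via s) (PrimeSpectrum.comap t r))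
    (q₁ : PrimeSpectrum A) :
    ∃ (n : ℕ) (a : Fin n → A) (x y : A) (b' : B),
      y ∉ q₁.asIdeal ∧
      (∀ q : PrimeSpectrum A, y ∉ q.asIdeal ↔
        ∀ r : PrimeSpectrum B, PrimeSpectrum.comap s r = q → t x ∉ r.asIdeal) ∧
      s y = t x * b' ∧
      (∀ b : B, toVia s (s x * b) ∈ spanT s t a) ∧
      (∀ q : PrimeSpectrum A, x ∉ q.asIdeal → Module.rankAtStalk (Via s) q = n) := by
  classical
  obtain ⟨n, a, hn, ha⟩ := exists_fibre_basis s t hspan q₁
  have hn' : Module.rankAtStalk (Via s) q₁ = n := by rw [hn, Module.rankAtStalk_eq]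
  -- the support of the cokernel
  have hq₁ : q₁ ∉ Module.support A (Via s ⧸ spanT s t a) :=
    not_mem_support_of_span_eq_top s t a q₁ ha
  set I : Ideal A := Module.annihilator A (Via s ⧸ spanT s t a) with hI
  -- the rank locus
  have hfp : Module.FinitePresentation A (Via s) := Module.finitePresentation_of_projective A _
  have hlc : IsLocallyConstant (Module.rankAtStalk (R := A) (Via s)) :=
    Module.isLocallyConstant_rankAtStalk
  have hclosed : IsClosed {q : PrimeSpectrum A | Module.rankAtStalk (Via s) q ≠ n} := by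
    have : IsOpen {q : PrimeSpectrum A | Module.rankAtStalk (Via s) q = n} :=
      hlc.isOpen_fiber n
    rw [← isOpen_compl_iff]
    convert this using 1
    ext q
    simp
  obtain ⟨J, hJ⟩ := (PrimeSpectrum.isClosed_iff_zeroLocus_ideal _).1 hclosed
  have hJmem : ∀ q : PrimeSpectrum A, ¬ (J ≤ q.asIdeal) → Module.rankAtStalk (Via s) q = n := by
    intro q hq
    by_contra hne
    have : q ∈ PrimeSpectrum.zeroLocus (J : Set A) := by rw [← hJ]; exact hne
    exact hq this
  -- the orbit of q₁
  let fib : Set (PrimeSpectrum B) := PrimeSpectrum.comap s ⁻¹' {q₁}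
  have hfibfin : fib.Finite :=
    Algebra.QuasiFinite.finite_comap_preimage_singleton (R := A) (S := Via s) q₁
  let O : Finset (PrimeSpectrum A) := hfibfin.toFinset.image (PrimeSpectrum.comap t)
  have hO : ∀ q' ∈ O, ¬ (I * J ≤ q'.asIdeal) := by
    intro q' hq'
    obtain ⟨r, hr, rfl⟩ := Finset.mem_image.1 hq'
    have hr' : PrimeSpectrum.comap s r = q₁ := by simpa [fib] using hr
    intro hle
    rcases (Ideal.IsPrime.mul_le (PrimeSpectrum.comap t r).2).1 hle with h1 | h1
    · have := not_mem_support_comap_t s t c hct hcs a hspan r (by rw [hr']; exact hq₁)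
      rw [Module.mem_support_iff_of_finite] at this
      exact this h1
    · have h2 : PrimeSpectrum.comap t r ∈ PrimeSpectrum.zeroLocus (J : Set A) := h1
      rw [← hJ] at h2
      exact h2 (by rw [← hrank r, hr', hn'])
  -- prime avoidance
  have havoid : ∃ x ∈ I * J, ∀ q' ∈ O, x ∉ q'.asIdeal := exists_mem_forall_notMem (I * J) O hO
  obtain ⟨x, hxIJ, hxO⟩ := havoid
  have hxI : x ∈ I := (Ideal.mul_le_left : I * J ≤ I) hxIJ
  have hxJ : x ∈ J := (Ideal.mul_le_right : I * J ≤ J) hxIJ
  -- the norm
  obtain ⟨m, f, g, -, -, hfg⟩ := Module.Finite.exists_comp_eq_id_of_projective A (Via s)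
  let y : A := anorm f g (toVia s (t x))
  obtain ⟨b', hb'⟩ := exists_mul_eq_anorm hfg (toVia s (t x))
  have hchar : ∀ q : PrimeSpectrum A, y ∉ q.asIdeal ↔
      ∀ r : PrimeSpectrum B, PrimeSpectrum.comap s r = q → t x ∉ r.asIdeal := by
    intro q
    have := anorm_notMem_iff hfg (toVia s (t x)) q.asIdeal
    rw [this]
    constructor
    · intro h r hr
      exact h r.asIdeal r.2 (by rw [← hr]; rfl)
    · intro h r hr hrq
      exact h ⟨r, hr⟩ (PrimeSpectrum.ext hrq)
  refine ⟨n, a, x, y, b', ?_, hchar, ?_, ?_, ?_⟩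
  · rw [hchar]
    intro r hr htx
    have hmem : PrimeSpectrum.comap t r ∈ O := by
      refine Finset.mem_image.2 ⟨r, ?_, rfl⟩
      simpa [fib] using hr
    exact hxO _ hmem htx
  · exact hb'.symm
  · intro b
    have := Module.mem_annihilator.1 hxI ((spanT s t a).mkQ (toVia s b))
    rw [← map_smul, Submodule.mkQ_apply, Submodule.Quotient.mk_eq_zero, via_smul_def] at this
    exact this
  · intro q hq
    apply hJmem
    intro hle
    exact hq (hle hxJ)

end Main

end Groth.Agent.H3.FinQuot
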