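import Mathlib

set_option autoImplicit false
universe u v

namespace Groth.Agent.H3.FinQuot

open Module

/-- A spanning family of `n` elements in a finite projective module of constant rank `n` is a
basis. -/
theorem exists_basis_of_span_eq_top_of_rankAtStalk {R : Type u} [CommRing R] {M : Type v}
    [AddCommGroup M] [Module R M] [Module.Finite R M] [Module.Projective R M] {n : ℕ}
    (v : Fin n → M) (hv : Submodule.span R (Set.range v) = ⊤)
    (hrank : ∀ p : PrimeSpectrum R, Module.rankAtStalk M p = n) :
    ∃ b : Module.Basis (Fin n) R M, ∀ i, b i = v i := by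
  classical
  let φ : (Fin n → R) →ₗ[R] M := Fintype.linearCombination R v
  have hφ : Function.Surjective φ := by
    rw [← LinearMap.range_eq_top, Fintype.range_linearCombination, hv]
  have hφi : ∀ i, φ (Pi.single i 1) = v i := fun i => by
    simp [φ, Fintype.linearCombination_apply_single]
  suffices hinj : Function.Injective φ by
    let e : (Fin n → R) ≃ₗ[R] M := LinearEquiv.ofBijective φ ⟨hinj, hφ⟩
    refine ⟨Module.Basis.ofEquivFun e.symm, fun i => ?_⟩
    rw [Module.Basis.coe_ofEquivFun, LinearEquiv.symm_symm]
    exact hφi i
  rcases subsingleton_or_nontrivial R with hR | hR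
  · have : Subsingleton (Fin n → R) := inferInstance
    intro x y _
    exact Subsingleton.elim x y
  obtain ⟨σ, hσ⟩ := Module.projective_lifting_property φ LinearMap.id hφ
  let K := LinearMap.ker φ
  have hex : Function.Exact K.subtype φ := LinearMap.exact_subtype_ker_map φ
  let e : (Fin n → R) ≃ₗ[R] K × M := (hex.splitSurjectiveEquiv K.subtype_injective ⟨σ, hσ⟩).1
  have hKproj : Module.Projective R K := by
    refine Module.Projective.of_split (M := (Fin n → R)) (e.symm.toLinearMap ∘ₗ LinearMap.inl R K M)
      (LinearMap.fst R K M ∘ₗ e.toLinearMap) ?_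
    ext x
    simp
  have hKfin : Module.Finite R K :=
    Module.Finite.of_surjective (LinearMap.fst R K M ∘ₗ e.toLinearMap)
      (Prod.fst_surjective.comp e.surjective)
  have h1 : Module.rankAtStalk (R := R) (Fin n → R) = Module.rankAtStalk (R := R) (K × M) :=
    Module.rankAtStalk_eq_of_equiv e
  rw [Module.rankAtStalk_prod, Module.rankAtStalk_eq_finrank_of_free, Module.finrank_fin_fun] at h1
  have h2 : Module.rankAtStalk (R := R) K = 0 := by
    ext p
    have := congrFun h1 p
    simp only [Pi.add_apply, hrank p] at this
    simpa using this.symm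
  rw [Module.rankAtStalk_eq_zero_iff_subsingleton] at h2
  rw [← LinearMap.ker_eq_bot]
  exact Submodule.eq_bot_of_subsingleton

end Groth.Agent.H3.FinQuot
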