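import Mathlib
import Groth.Agent.Lib.Helper3.FinQuot.LocalStep
import Groth.Agent.Lib.Helper3.FinQuot.ProjBasis

/-!
# Localizing the output of the local step (helper3)

After inverting `y` in `A` and `s y` in `B`, the elements `t (a i)` become a basis.
-/

set_option autoImplicit false
set_option linter.style.haveILetI false
universe u

open TensorProduct

namespace Groth.Agent.H3.FinQuot

variable {A B A' B' : Type u} [CommRing A] [CommRing B] [CommRing A'] [CommRing B']
variable (s t : A →+* B)

theorem exists_basis_localized [Module.Finite A (Via s)] [Module.Projective A (Via s)]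
    {n : ℕ} (a : Fin n → A) (x y w : A) (hyx : y = x * w)
    (hspan : ∀ b : B, toVia s (s x * b) ∈ spanT s t a)
    (hrank : ∀ q : PrimeSpectrum A, x ∉ q.asIdeal → Module.rankAtStalk (Via s) q = n)
    [Algebra A A'] [IsLocalization.Away y A'] [Algebra B B'] [IsLocalization.Away (s y) B']
    (s' t' : A' →+* B') (hs' : ∀ α, s' (algebraMap A A' α) = algebraMap B B' (s α))
    (ht' : ∀ α, t' (algebraMap A A' α) = algebraMap B B' (t α)) :
    s'.Finite ∧ ∃ b : Module.Basis (Fin n) A' (Via s'),
      ∀ i, b i = toVia s' (t' (algebraMap A A' (a i))) := by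
  classical
  letI algBB' : Algebra (Via s) (Via s') :=
    ((toVia s').toRingHom.comp ((algebraMap B B').comp (toVia s).symm.toRingHom)).toAlgebra
  letI algAB' : Algebra A (Via s') := ((algebraMap A' (Via s')).comp (algebraMap A A')).toAlgebra
  haveI tow1 : IsScalarTower A A' (Via s') := IsScalarTower.of_algebraMap_eq (fun _ => rfl)
  haveI tow2 : IsScalarTower A (Via s) (Via s') := IsScalarTower.of_algebraMap_eq (fun α => by
    show toVia s' (s' (algebraMap A A' α)) = toVia s' (algebraMap B B' (s α))
    rw [hs' α])
  have hsub : Algebra.algebraMapSubmonoid (Via s) (Submonoid.powers y) =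
      Submonoid.powers (toVia s (s y)) := by
    rw [Algebra.algebraMapSubmonoid, Submonoid.map_powers]
    rfl
  haveI hloc : IsLocalization (Algebra.algebraMapSubmonoid (Via s) (Submonoid.powers y))
      (Via s') := by
    rw [hsub]
    have h0 : IsLocalization (Submonoid.powers (s y)) B' := ‹IsLocalization.Away (s y) B'›
    rw [isLocalization_iff] at h0 ⊢
    exact h0
  let f : Via s →ₗ[A] Via s' := (IsScalarTower.toAlgHom A (Via s) (Via s')).toLinearMap
  haveI hlm : IsLocalizedModule (Submonoid.powers y) f := isLocalizedModule_iff_isLocalization.2 hloc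
  haveI hfin : Module.Finite A' (Via s') := Module.Finite.of_isLocalizedModule (Submonoid.powers y) f
  haveI hproj : Module.Projective A' (Via s') :=
    Module.projective_of_isLocalizedModule (Submonoid.powers y) f
  have hrk : ∀ p : PrimeSpectrum A', Module.rankAtStalk (Via s') p = n := by
    intro p
    rw [Module.rankAtStalk_isBaseChange (IsLocalizedModule.isBaseChange (Submonoid.powers y) A' f) p]
    apply hrank
    intro hx
    have hy : y ∈ (PrimeSpectrum.comap (algebraMap A A') p).asIdeal := by
      rw [hyx]
      exact Ideal.mul_mem_right _ _ hx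
    have hu : IsUnit (algebraMap A A' y) := IsLocalization.Away.algebraMap_isUnit y
    exact p.2.ne_top (Ideal.eq_top_of_isUnit_mem _ hy hu)
  have hunit : IsUnit (algebraMap A A' y) := IsLocalization.Away.algebraMap_isUnit y
  obtain ⟨yi, hyi⟩ := hunit.exists_right_inv
  -- spanning
  let v : Fin n → Via s' := fun i => toVia s' (t' (algebraMap A A' (a i)))
  have hv : Submodule.span A' (Set.range v) = ⊤ := by
    rw [eq_top_iff]
    -- every element of the image of `f` is in the span
    have h1 : ∀ b : Via s, f b ∈ Submodule.span A' (Set.range v) := by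
      intro b
      have hb := hspan ((toVia s).symm b)
      obtain ⟨μ, hμ⟩ := (Submodule.mem_span_range_iff_exists_fun A).1 hb
      -- s y * b = s w * (s x * b)
      have h2 : algebraMap A A' y • f b = ∑ i, algebraMap A A' (w * μ i) • v i := by
        have h3 : (y • b : Via s) = w • ∑ i, μ i • toVia s (t (a i)) := by
          obtain ⟨b0, rfl⟩ := (toVia s).surjective b
          rw [hμ, hyx, via_smul_def, via_smul_def]
          simp only [map_mul, RingEquiv.symm_apply_apply]
          ring
        have h4 := congrArg f h3
        rw [map_smul, map_smul, map_sum] at h4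
        rw [algebraMap_smul, h4, Finset.smul_sum]
        refine Finset.sum_congr rfl fun i _ => ?_
        rw [map_smul, smul_smul, algebraMap_smul A' (w * μ i) (v i)]
        congr 1
        show toVia s' (algebraMap B B' (t (a i))) = toVia s' (t' (algebraMap A A' (a i)))
        rw [ht']
      have h5 : f b = yi • (algebraMap A A' y • f b) := by
        rw [smul_smul, mul_comm, hyi, one_smul]
      rw [h5, h2]
      refine Submodule.smul_mem _ _ (Submodule.sum_mem _ fun i _ => ?_)
      exact Submodule.smul_mem _ _ (Submodule.subset_span ⟨i, rfl⟩)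
    intro z _
    obtain ⟨⟨b, m⟩, hbm⟩ := IsLocalizedModule.surj (Submonoid.powers y) f z
    have hm : IsUnit (algebraMap A A' (m : A)) := IsLocalization.map_units A' m
    obtain ⟨mi, hmi⟩ := hm.exists_right_inv
    have h6 : z = mi • f b := by
      rw [← hbm, Submonoid.smul_def, ← algebraMap_smul A' (m : A) z, smul_smul, mul_comm, hmi,
        one_smul]
    rw [h6]
    exact Submodule.smul_mem _ _ (h1 b)
  obtain ⟨b, hb⟩ := exists_basis_of_span_eq_top_of_rankAtStalk v hv hrk
  refine ⟨?_, b, hb⟩
  exact hfin

end Groth.Agent.H3.FinQuot
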