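import Groth.Agent.Lib.Helper3.FinQuot.RestrictKP
import Groth.Agent.Lib.Helper3.FinQuot.Localize
import Groth.Agent.Lib.Helper5.AlgSp.SchematicLocus
import Groth.Agent.Lib.Helper5.AlgSp.PointsTop

set_option autoImplicit false
universe u

open CategoryTheory CategoryTheory.Limits AlgebraicGeometry TensorProduct
open AlgSp

namespace Groth.Agent.H3.FinQuot

open Groth.Agent.H5.AlgSp

variable {S : Scheme.{u}}

/-- An element avoiding all primes of `B` not containing `g` becomes a unit in `B[1/g]`. -/
lemma isUnit_algebraMap_of_forall_notMem {B B' : Type u} [CommRing B] [CommRing B'] [Algebra B B']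
    (g b : B) [IsLocalization.Away g B']
    (h : ∀ r : PrimeSpectrum B, g ∉ r.asIdeal → b ∉ r.asIdeal) : IsUnit (algebraMap B B' b) := by
  by_contra hu
  obtain ⟨M, hM, hbM⟩ := exists_max_ideal_of_mem_nonunits hu
  let r : PrimeSpectrum B := ⟨M.comap (algebraMap B B'), inferInstance⟩
  have hg : g ∉ r.asIdeal := by
    intro hg
    have hug : IsUnit (algebraMap B B' g) := IsLocalization.Away.algebraMap_isUnit g
    exact hM.ne_top (Ideal.eq_top_of_isUnit_mem _ hg hug)
  exact h r hg hbM

/-- finite étale ring maps give finite projective modules. -/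
lemma finite_projective_of_finite_etale {A B : CommRingCat.{u}} (s₀ : A ⟶ B)
    [IsFinite (Spec.map s₀)] [Etale (Spec.map s₀)] :
    s₀.hom.Finite ∧ Module.Finite A (Via s₀.hom) ∧ Module.Projective A (Via s₀.hom) := by
  have hfin : s₀.hom.Finite := (IsFinite.SpecMap_iff s₀).1 inferInstance
  have hflat : s₀.hom.Flat := Flat.SpecMap_iff.1 inferInstance
  have hfp : s₀.hom.FinitePresentation :=
    (LocallyOfFinitePresentation.SpecMap_iff s₀).1 inferInstance
  have h1 : Module.Finite A (Via s₀.hom) := hfin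
  have h2 : Module.Flat A (Via s₀.hom) := hflat
  have h3 : Algebra.FinitePresentation A (Via s₀.hom) := hfp
  have h4 : Module.FinitePresentation A (Via s₀.hom) :=
    Module.FinitePresentation.of_finite_of_finitePresentation _ _
  exact ⟨hfin, h1, Module.Flat.projective_of_finitePresentation⟩

/-- For the kernel pair `R ⇉ U` of `p : h_U ⟶ X` with `s` finite flat, the rank of `s` is the same
at `s r` and at `t r`. -/
theorem finrank_source_eq_target {X : Sp S} {U R : Over S} (p : (yon S).obj U ⟶ X) (s t : R ⟶ U)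
    (sq : IsPullback ((yon S).map t) ((yon S).map s) p p) [Flat s.left] [IsFinite s.left]
    (r : ↥R.left) : s.left.finrank (s.left r) = s.left.finrank (t.left r) := by
  -- pullback of `s` along `s` and along `t`
  have h1 : IsPullback (pullback.fst s s) (pullback.snd s s) s s := IsPullback.of_hasPullback s s
  have h2 : IsPullback (pullback.fst s t) (pullback.snd s t) s t := IsPullback.of_hasPullback s t
  have h1' : IsPullback (pullback.fst s s).left (pullback.snd s s).left s.left s.left :=
    h1.map (Over.forget S)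
  have h2' : IsPullback (pullback.fst s t).left (pullback.snd s t).left s.left t.left :=
    h2.map (Over.forget S)
  have e1 := Scheme.Hom.finrank_of_isPullback _ _ _ _ h1' r
  have e2 := Scheme.Hom.finrank_of_isPullback _ _ _ _ h2' r
  rw [← e1, ← e2]
  -- the two pullbacks are isomorphic over `R`
  have o1 : IsPullback ((yon S).map (pullback.fst s s) ≫ (yon S).map t)
      ((yon S).map (pullback.snd s s)) p ((yon S).map s ≫ p) :=
    (h1.map (yon S)).paste_horiz sq
  have o2 : IsPullback ((yon S).map (pullback.fst s t) ≫ (yon S).map t)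
      ((yon S).map (pullback.snd s t)) p ((yon S).map t ≫ p) :=
    (h2.map (yon S)).paste_horiz sq
  rw [← sq.w] at o1
  let φ := o1.isoIsPullback _ _ o2
  have hφ : φ.hom ≫ (yon S).map (pullback.snd s t) = (yon S).map (pullback.snd s s) :=
    IsPullback.isoIsPullback_hom_snd _ _ o1 o2
  let ψ : pullback s s ≅ pullback s t := (yon S).preimageIso φ
  have hψ : ψ.hom ≫ pullback.snd s t = pullback.snd s s := by
    apply (yon S).map_injective
    rw [Functor.map_comp]
    simp only [ψ, Functor.preimageIso_hom, Functor.map_preimage]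
    exact hφ
  have hψl : ψ.hom.left ≫ (pullback.snd s t).left = (pullback.snd s s).left := by
    rw [← Over.comp_left, hψ]
  have : IsIso ψ.hom.left := inferInstanceAs (IsIso ((Over.forget S).map ψ.hom))
  have : Flat (pullback.snd s t).left :=
    MorphismProperty.of_isPullback (P := @Flat) h2' ‹_›
  have : IsFinite (pullback.snd s t).left :=
    MorphismProperty.of_isPullback (P := @IsFinite) h2' ‹_›
  rw [← hψl, Scheme.Hom.finrank_comp_left_of_isIso]



/-- a prime of `A` as a point of `Spec A` -/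
def specPt {A : CommRingCat.{u}} (q : PrimeSpectrum A) : ↥(Spec A) := q
/-- a point of `Spec B` as a prime -/
def primePt {B : CommRingCat.{u}} (x : ↥(Spec B)) : PrimeSpectrum B := x

lemma specPt_comap {A B : CommRingCat.{u}} (f : A ⟶ B) (r : PrimeSpectrum B) :
    specPt (PrimeSpectrum.comap f.hom r) = (Spec.map f) (specPt r) := rfl

lemma specPt_comap_eq {A B : CommRingCat.{u}} (str : Spec A ⟶ S) {R : Over S}
    (s : R ⟶ Over.mk str) (i : R.left ≅ Spec B) (s₀ : A ⟶ B) (hs₀ : Spec.map s₀ = i.inv ≫ s.left)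
    (r : PrimeSpectrum B) :
    specPt (PrimeSpectrum.comap s₀.hom r) = s.left (i.inv (specPt r)) := by
  rw [specPt_comap, hs₀]
  rfl

lemma specPt_comap_hom {A B : CommRingCat.{u}} (str : Spec A ⟶ S) {R : Over S}
    (s : R ⟶ Over.mk str) (i : R.left ≅ Spec B) (s₀ : A ⟶ B) (hs₀ : Spec.map s₀ = i.inv ≫ s.left)
    (ρ : ↥R.left) :
    specPt (PrimeSpectrum.comap s₀.hom (primePt (i.hom ρ))) = s.left ρ := by
  rw [specPt_comap_eq str s i s₀ hs₀]
  change s.left (i.inv (i.hom ρ)) = _
  rw [← Scheme.Hom.comp_apply i.hom i.inv, Iso.hom_inv_id]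
  rfl

/-- ring form of `finrank_source_eq_target` -/
theorem rankAtStalk_comap_eq {X : Sp S} {A B : CommRingCat.{u}} (str : Spec A ⟶ S) {R : Over S}
    (p : (yon S).obj (Over.mk str) ⟶ X) (s t : R ⟶ Over.mk str)
    (sq : IsPullback ((yon S).map t) ((yon S).map s) p p) [Flat s.left] [IsFinite s.left]
    (i : R.left ≅ Spec B) (s₀ t₀ : A ⟶ B) (hs₀ : Spec.map s₀ = i.inv ≫ s.left)
    (ht₀ : Spec.map t₀ = i.inv ≫ t.left) (r : PrimeSpectrum B) :
    Module.rankAtStalk (Via s₀.hom) (PrimeSpectrum.comap s₀.hom r) =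
      Module.rankAtStalk (Via s₀.hom) (PrimeSpectrum.comap t₀.hom r) := by
  have hfl : Flat (Spec.map s₀) := by rw [hs₀]; infer_instance
  have hfi : IsFinite (Spec.map s₀) := by rw [hs₀]; infer_instance
  have hf₁ : s₀.hom.Finite := (IsFinite.SpecMap_iff s₀).1 hfi
  have hf₂ : s₀.hom.Flat := Flat.SpecMap_iff.1 hfl
  have key : ∀ q : PrimeSpectrum A, Module.rankAtStalk (Via s₀.hom) q =
      s.left.finrank (specPt q) := by
    intro q
    have h1 : Module.rankAtStalk (Via s₀.hom) q = s₀.hom.finrank q := rfl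
    rw [h1, ← Scheme.Hom.finrank_SpecMap_eq_finrank hf₁ hf₂]
    have h2 : (Spec.map s₀).finrank = (i.inv ≫ s.left).finrank := by rw [hs₀]
    rw [h2, Scheme.Hom.finrank_comp_left_of_isIso]
    rfl
  rw [key, key, specPt_comap_eq str s i s₀ hs₀, specPt_comap_eq str t i t₀ ht₀]
  exact finrank_source_eq_target p s t sq (i.inv (specPt r))

/-- ring form of saturation: the set of primes all of whose orbit lies in `D` is saturated. -/
theorem comap_mem_saturated_iff {X : Sp S} {A B : CommRingCat.{u}} (str : Spec A ⟶ S) {R : Over S}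
    (p : (yon S).obj (Over.mk str) ⟶ X) (s t : R ⟶ Over.mk str)
    (sq : IsPullback ((yon S).map t) ((yon S).map s) p p)
    (i : R.left ≅ Spec B) (s₀ t₀ : A ⟶ B) (hs₀ : Spec.map s₀ = i.inv ≫ s.left)
    (ht₀ : Spec.map t₀ = i.inv ≫ t.left) (D : Set (PrimeSpectrum A)) (r : PrimeSpectrum B) :
    (∀ r' : PrimeSpectrum B, PrimeSpectrum.comap s₀.hom r' = PrimeSpectrum.comap s₀.hom r →
        PrimeSpectrum.comap t₀.hom r' ∈ D) ↔
      (∀ r' : PrimeSpectrum B, PrimeSpectrum.comap s₀.hom r' = PrimeSpectrum.comap t₀.hom r →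
        PrimeSpectrum.comap t₀.hom r' ∈ D) := by
  -- membership depends only on the image in `|X|`
  have hchar : ∀ q : PrimeSpectrum A,
      (∀ r' : PrimeSpectrum B, PrimeSpectrum.comap s₀.hom r' = q →
        PrimeSpectrum.comap t₀.hom r' ∈ D) ↔
      (∀ q' : PrimeSpectrum A, Points.ofPt p (specPt q') = Points.ofPt p (specPt q) → q' ∈ D) := by
    intro q
    constructor
    · intro h q' hq'
      obtain ⟨ρ, hρt, hρs⟩ := (ofPt_eq_ofPt_iff sq _ _).1 hq'
      have h1 : PrimeSpectrum.comap s₀.hom (primePt (i.hom ρ)) = q := by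
        have := specPt_comap_hom str s i s₀ hs₀ ρ
        rw [hρs] at this
        exact this
      have h2 : PrimeSpectrum.comap t₀.hom (primePt (i.hom ρ)) = q' := by
        have := specPt_comap_hom str t i t₀ ht₀ ρ
        rw [hρt] at this
        exact this
      rw [← h2]
      exact h _ h1
    · intro h r' hr'
      apply h
      rw [← hr', specPt_comap_eq str s i s₀ hs₀, specPt_comap_eq str t i t₀ ht₀]
      exact (ofPt_eq_ofPt_iff sq _ _).2 ⟨i.inv (specPt r'), rfl, rfl⟩
  rw [hchar, hchar]
  have : Points.ofPt p (specPt (PrimeSpectrum.comap s₀.hom r)) =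
      Points.ofPt p (specPt (PrimeSpectrum.comap t₀.hom r)) := by
    rw [specPt_comap_eq str s i s₀ hs₀, specPt_comap_eq str t i t₀ ht₀]
    exact ((ofPt_eq_ofPt_iff sq _ _).2 ⟨i.inv (specPt r), rfl, rfl⟩).symm
  rw [this]

end Groth.Agent.H3.FinQuot
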