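import Groth.Agent.Lib.Helper3.FinQuot.FieldQuot
import Groth.Agent.Lib.Helper3.AlgSpMor.SepAffine
import Groth.Agent.Lib.Helper5.AlgSp.Decent
import Groth.Agent.Lib.Helper5.AlgSp.Presentation
import Groth.Agent.Lib.Helper5.AlgSp.PointsTop

set_option autoImplicit false
universe u

open CategoryTheory CategoryTheory.Limits AlgebraicGeometry TensorProduct
open AlgSp

namespace Groth.Agent.H3.FinQuot

open Groth.Agent.H5.AlgSp

variable {S : Scheme.{u}}

/-- two locally surjective maps with the same kernel pair have isomorphic targets. -/
theorem exists_iso_of_same_kernelPair {G K F F' : Sp S} {a b : K ⟶ G} (p : G ⟶ F) (p' : G ⟶ F')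
    [Sheaf.IsLocallySurjective p] [Sheaf.IsLocallySurjective p']
    (sq : IsPullback a b p p) (sq' : IsPullback a b p' p') :
    ∃ e : F' ≅ F, p' ≫ e.hom = p := by
  obtain ⟨h⟩ := nonempty_isColimit_cofork_of_isLocallySurjective p sq
  obtain ⟨h'⟩ := nonempty_isColimit_cofork_of_isLocallySurjective p' sq'
  refine ⟨h'.coconePointUniqueUpToIso h, ?_⟩
  exact h'.comp_coconePointUniqueUpToIso_hom h WalkingParallelPair.one

/-- Stacks 03KX-type lemma: a quasi-separated algebraic space with an etale surjective map
from the spectrum of a field is the spectrum of a field. -/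
theorem exists_iso_spec_field {X : Sp S} (hX : IsQuasiSeparatedSp X)
    (k : Type u) [Field k] (str : Spec (CommRingCat.of k) ⟶ S)
    (p : (yon S).obj (Over.mk str) ⟶ X) (hp : RepWith @Etale p) (hs : RepWith @Surjective p) :
    ∃ (k' : Type u) (_ : Field k') (str' : Spec (CommRingCat.of k') ⟶ S)
      (e : (yon S).obj (Over.mk str') ≅ X) (c : Over.mk str ⟶ Over.mk str'),
      (yon S).map c ≫ e.hom = p ∧ IsFinite c.left ∧ Etale c.left := by
  -- the relation
  have hrep := hp.rep
  let R : Over S := hrep.pullback p
  let t : R ⟶ Over.mk str := hrep.fst' p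
  let s : R ⟶ Over.mk str := hrep.snd p
  have sq : IsPullback ((yon S).map t) ((yon S).map s) p p := hrep.isPullback' p
  have heq : IsEqvRel s t := isEqvRel_of_isPullback p s t sq
  have hse : Etale s.left := hp.property p _ s sq
  -- quasi-compactness
  have hqc : QuasiCompact (prod.lift t s).left :=
    SepAffine.prodLift_left_of_repWith_diag hX sq
  have hqc2 : QuasiCompact str := quasiCompact_of_field str
  have hcomp : CompactSpace ↥R.left := by
    have h1 : CompactSpace ↥(pullback (Over.mk str).hom (Over.mk str).hom) := by
      change CompactSpace ↥(pullback str str)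
      exact QuasiCompact.compactSpace_of_compactSpace (pullback.fst str str)
    have h2 : CompactSpace ↥((Over.mk str) ⨯ (Over.mk str)).left :=
      (Scheme.homeoOfIso (Over.prodLeftIsoPullback (Over.mk str) (Over.mk str))).symm.compactSpace
    exact QuasiCompact.compactSpace_of_compactSpace (prod.lift t s).left
  have hsqc : QuasiCompact s.left := by
    have : IsAffine (Over.mk str).left := by
      change IsAffine (Spec (CommRingCat.of k)); infer_instance
    exact (quasiCompact_iff_compactSpace _).2 hcomp
  have hlqf : LocallyQuasiFinite s.left := locallyQuasiFinite_of_etale s.left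
  have hart : IsLocallyArtinian (Over.mk str).left := by
    change IsLocallyArtinian (Spec (CommRingCat.of k))
    rw [Scheme.isLocallyArtinianScheme_Spec]
    infer_instance
  have hsfin : IsFinite s.left := IsFinite.of_locallyQuasiFinite s.left
  obtain ⟨k', hk', str', cm, h1, h2, h3, h4, hpb⟩ := exists_quotient_field str s t heq
  have hpb' : IsPullback ((yon S).map t) ((yon S).map s) ((yon S).map cm) ((yon S).map cm) :=
    hpb.map (yon S)
  have : Sheaf.IsLocallySurjective p := isLocallySurjective_of_etale_surjective p hp hs
  have : Sheaf.IsLocallySurjective ((yon S).map cm) :=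
    isLocallySurjective_of_repWith _ ((repWith_yon_map_iff _ _).2 h2)
      ((repWith_yon_map_iff _ _).2 h4) ((repWith_yon_map_iff _ _).2 h3)
  obtain ⟨e, he⟩ := exists_iso_of_same_kernelPair p ((yon S).map cm) sq hpb'
  refine ⟨k', hk', str', e, cm, he, h1, ?_⟩
  have h5 : RepWith @Etale ((yon S).map cm) := by
    have : (yon S).map cm = p ≫ e.inv := by rw [← he, Category.assoc, e.hom_inv_id, Category.comp_id]
    rw [this]
    exact MorphismProperty.RespectsIso.postcomp _ _ _ hp
  exact (repWith_yon_map_iff _ _).1 h5

end Groth.Agent.H3.FinQuot
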