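import Groth.Agent.Lib.Helper3.FinQuot.AffineQuot
import Groth.Agent.Lib.Helper3.FinQuot.SpecField

/-!
# Charts with a finite free kernel pair (helper3)
-/

set_option autoImplicit false
universe u

open CategoryTheory CategoryTheory.Limits AlgebraicGeometry TensorProduct
open AlgSp

namespace Groth.Agent.H3.FinQuot

open Groth.Agent.H5.AlgSp

variable {S : Scheme.{u}}

/-- **Free case**: a sheaf with an etale surjective chart from `Spec A` whose kernel pair
`Spec B ⇉ Spec A` is finite and such that `B` is free over `A` on elements `t (a i)` is an affine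
scheme. -/
theorem exists_iso_spec_of_chart_basis {X : Sp S} {A B : CommRingCat.{u}} (str : Spec A ⟶ S)
    (p : (yon S).obj (Over.mk str) ⟶ X) (hp : RepWith @Etale p) (hs : RepWith @Surjective p)
    {R : Over S} (s t : R ⟶ Over.mk str) (sq : IsPullback ((yon S).map t) ((yon S).map s) p p)
    (i : R.left ≅ Spec B) (s₀ t₀ : A ⟶ B) (hs₀ : Spec.map s₀ = i.inv ≫ s.left)
    (ht₀ : Spec.map t₀ = i.inv ≫ t.left) (hfin : s₀.hom.Finite)
    {ι : Type u} [Finite ι] (a : ι → A) (b : Module.Basis ι A (Via s₀.hom))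
    (hb : ∀ i, b i = toVia s₀.hom (t₀.hom (a i))) :
    ∃ (C : CommRingCat.{u}) (str' : Spec C ⟶ S) (e : (yon S).obj (Over.mk str') ≅ X)
      (c : Over.mk str ⟶ Over.mk str'), (yon S).map c ≫ e.hom = p ∧ IsFinite c.left ∧
        Flat c.left ∧ Surjective c.left := by
  have heq : IsEqvRel s t := isEqvRel_of_isPullback p s t sq
  obtain ⟨C, str', cm, h1, h2, h3, h4, hpb⟩ :=
    exists_quotient_affine_of_basis str s t heq i s₀ t₀ hs₀ ht₀ hfin a b hb
  have hpb' : IsPullback ((yon S).map t) ((yon S).map s) ((yon S).map cm) ((yon S).map cm) :=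
    hpb.map (yon S)
  have : Sheaf.IsLocallySurjective p := isLocallySurjective_of_etale_surjective p hp hs
  have : Sheaf.IsLocallySurjective ((yon S).map cm) :=
    isLocallySurjective_of_repWith _ ((repWith_yon_map_iff _ _).2 h2)
      ((repWith_yon_map_iff _ _).2 h4) ((repWith_yon_map_iff _ _).2 h3)
  obtain ⟨e, he⟩ := exists_iso_of_same_kernelPair p ((yon S).map cm) sq hpb'
  exact ⟨C, str', e, cm, he, h1, h2, h3⟩

end Groth.Agent.H3.FinQuot
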