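import Groth.Agent.Lib.Helper3.FinQuot.Cocycle
import Groth.Prelude.Def_AlgSp

set_option autoImplicit false
universe u

open CategoryTheory CategoryTheory.Limits AlgebraicGeometry TensorProduct
open AlgSp

namespace Groth.Agent.H3.FinQuot

section G1

variable {S : Scheme.{u}} {K : Type u} [Field K] (str : Spec (CommRingCat.of K) ⟶ S)
  {B : CommRingCat.{u}} (s t : CommRingCat.of K ⟶ B)
  (hst : Spec.map t ≫ str = Spec.map s ≫ str)

/-- The relation `Spec B ⇉ Spec K` as a pair in `Over S`. -/
noncomputable abbrev RO : Over S := Over.mk (Spec.map s ≫ str)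
noncomputable abbrev UO : Over S := Over.mk str
noncomputable abbrev sO : RO str s ⟶ UO str := Over.homMk (Spec.map s) rfl
noncomputable abbrev tO : RO str s ⟶ UO str := Over.homMk (Spec.map t) hst

variable (heq : IsEqvRel (sO str s) (tO str s t hst))

include heq in
/-- the unit: a retraction of `s` and `t`. -/
lemma exists_unit : ∃ e : B ⟶ CommRingCat.of K, s ≫ e = 𝟙 _ ∧ t ≫ e = 𝟙 _ := by
  obtain ⟨r, hr1, hr2⟩ := (heq.equivalence (UO str)).refl (𝟙 _)
  refine ⟨Spec.preimage r.left, ?_, ?_⟩
  · apply Spec.map_injective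
    rw [Spec.map_comp, Spec.map_preimage, Spec.map_id]
    exact congrArg CommaMorphism.left hr2
  · apply Spec.map_injective
    rw [Spec.map_comp, Spec.map_preimage, Spec.map_id]
    exact congrArg CommaMorphism.left hr1

include heq in
/-- two ring maps out of `B` agreeing on `s(K)` and `t(K)` agree. -/
lemma hom_ext_of_eqvRel {D : CommRingCat.{u}} {g h : B ⟶ D} (h1 : s ≫ g = s ≫ h)
    (h2 : t ≫ g = t ≫ h) : g = h := by
  apply Spec.map_injective
  have e1 : Spec.map g ≫ Spec.map s = Spec.map h ≫ Spec.map s := by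
    rw [← Spec.map_comp, ← Spec.map_comp, h1]
  have e2 : Spec.map g ≫ Spec.map t = Spec.map h ≫ Spec.map t := by
    rw [← Spec.map_comp, ← Spec.map_comp, h2]
  let T : Over S := Over.mk (Spec.map g ≫ Spec.map s ≫ str)
  let r : T ⟶ RO str s := Over.homMk (Spec.map g) rfl
  let r' : T ⟶ RO str s := Over.homMk (Spec.map h) (by
    change Spec.map h ≫ Spec.map s ≫ str = Spec.map g ≫ Spec.map s ≫ str
    rw [← Category.assoc, ← e1, Category.assoc])
  have := heq.injective T r r' (by ext; exact e2) (by ext; exact e1)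
  exact congrArg CommaMorphism.left this


/-- `t` as a ring hom into `Via s`. -/
def tVia : K →+* Via s.hom := (toVia s.hom : B →+* Via s.hom).comp t.hom

lemma tVia_apply (x : K) : tVia s t x = toVia s.hom (t.hom x) := rfl

include heq in
/-- `t(K)` spans `B` over `s(K)`. -/
lemma span_range_tVia (hfin : s.hom.Finite) :
    Submodule.span K (Set.range (tVia s t)) = ⊤ := by
  let B' : Subalgebra K (Via s.hom) := Algebra.adjoin K (Set.range (tVia s t))
  let f : CommRingCat.of B' ⟶ B :=
    CommRingCat.ofHom (((toVia s.hom).symm : Via s.hom →+* B).comp B'.val.toRingHom)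
  let sK : CommRingCat.of K ⟶ CommRingCat.of B' := CommRingCat.ofHom (algebraMap K B')
  let tK : CommRingCat.of K ⟶ CommRingCat.of B' := CommRingCat.ofHom
    ((tVia s t).codRestrict B'.toSubring (fun x => Algebra.subset_adjoin ⟨x, rfl⟩))
  have hs : sK ≫ f = s := by ext x; rfl
  have ht : tK ≫ f = t := by ext x; rfl
  have hepi : Epi f := ⟨fun g h hgh => hom_ext_of_eqvRel str s t hst heq
    (by rw [← hs, Category.assoc, Category.assoc, hgh])
    (by rw [← ht, Category.assoc, Category.assoc, hgh])⟩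
  have hff : f.hom.Finite := by
    have : (f.hom.comp sK.hom).Finite := by
      have e : f.hom.comp sK.hom = s.hom := congrArg CommRingCat.Hom.hom hs
      rw [e]; exact hfin
    exact RingHom.Finite.of_comp_finite this
  have hsurj := RingHom.surjective_of_epi_of_finite f hff
  have htop : B' = ⊤ := by
    rw [eq_top_iff]
    rintro y -
    obtain ⟨z, hz⟩ := hsurj ((toVia s.hom).symm y)
    have : (z : Via s.hom) = y := (toVia s.hom).symm.injective hz
    rw [← this]
    exact z.2
  have h1 := Algebra.adjoin_eq_span K (Set.range (tVia s t))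
  have h2 : (Submonoid.closure (Set.range (tVia s t)) : Set (Via s.hom)) = Set.range (tVia s t) := by
    have : Set.range (tVia s t) = ((MonoidHom.mrange (tVia s t : K →* Via s.hom) :
        Submonoid (Via s.hom)) : Set (Via s.hom)) := rfl
    rw [this, Submonoid.closure_eq]
  rw [h2] at h1
  rw [← h1]
  change B'.toSubmodule = ⊤
  rw [htop]
  rfl


/-- `Γ(R ×_{s,U,t} R)` -/
abbrev B2 : CommRingCat.{u} := CommRingCat.of (Via s.hom ⊗[K] Via t.hom)

noncomputable def p0 : B ⟶ B2 s t := CommRingCat.ofHom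
  ((Algebra.TensorProduct.includeLeftRingHom : Via s.hom →+* Via s.hom ⊗[K] Via t.hom).comp
    (toVia s.hom : B →+* Via s.hom))

noncomputable def p1 : B ⟶ B2 s t := CommRingCat.ofHom
  ((Algebra.TensorProduct.includeRight : Via t.hom →ₐ[K] Via s.hom ⊗[K] Via t.hom).toRingHom.comp
    (toVia t.hom : B →+* Via t.hom))

lemma p0_apply (y : B) : (p0 s t).hom y = toVia s.hom y ⊗ₜ[K] (1 : Via t.hom) := rfl
lemma p1_apply (y : B) : (p1 s t).hom y = (1 : Via s.hom) ⊗ₜ[K] toVia t.hom y := rfl

lemma s_p0_eq_t_p1 : s ≫ p0 s t = t ≫ p1 s t := by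
  ext x
  change toVia s.hom (s.hom x) ⊗ₜ[K] (1 : Via t.hom) = (1 : Via s.hom) ⊗ₜ[K] toVia t.hom (t.hom x)
  have h1 : toVia s.hom (s.hom x) = x • (1 : Via s.hom) := by
    rw [← map_one (toVia s.hom), via_smul_def, mul_one]
  have h2 : toVia t.hom (t.hom x) = x • (1 : Via t.hom) := by
    rw [← map_one (toVia t.hom), via_smul_def, mul_one]
  rw [h1, h2, TensorProduct.smul_tmul]

include heq in
/-- the composition law of the equivalence relation, on rings. -/
lemma exists_comp : ∃ c : B ⟶ B2 s t, t ≫ c = t ≫ p0 s t ∧ s ≫ c = s ≫ p1 s t := by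
  let T : Over S := Over.mk (Spec.map (p0 s t) ≫ Spec.map s ≫ str)
  let q0 : T ⟶ RO str s := Over.homMk (Spec.map (p0 s t)) rfl
  have h01 : Spec.map (p0 s t) ≫ Spec.map s = Spec.map (p1 s t) ≫ Spec.map t := by
    rw [← Spec.map_comp, ← Spec.map_comp, s_p0_eq_t_p1]
  let q1 : T ⟶ RO str s := Over.homMk (Spec.map (p1 s t)) (by
    change Spec.map (p1 s t) ≫ Spec.map s ≫ str = Spec.map (p0 s t) ≫ Spec.map s ≫ str
    rw [← hst, ← Category.assoc, ← h01, Category.assoc, hst])
  have r1 : ∃ r : T ⟶ RO str s, r ≫ tO str s t hst = q0 ≫ tO str s t hst ∧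
      r ≫ sO str s = q0 ≫ sO str s := ⟨q0, rfl, rfl⟩
  have r2 : ∃ r : T ⟶ RO str s, r ≫ tO str s t hst = q0 ≫ sO str s ∧
      r ≫ sO str s = q1 ≫ sO str s := ⟨q1, by ext; exact h01.symm, rfl⟩
  obtain ⟨c, hc1, hc2⟩ := (heq.equivalence T).trans r1 r2
  refine ⟨Spec.preimage c.left, ?_, ?_⟩
  · apply Spec.map_injective
    rw [Spec.map_comp, Spec.map_preimage, Spec.map_comp]
    exact congrArg CommaMorphism.left hc1
  · apply Spec.map_injective
    rw [Spec.map_comp, Spec.map_preimage, Spec.map_comp]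
    exact congrArg CommaMorphism.left hc2


include heq in
theorem exists_basis_data (hfin : s.hom.Finite) :
    ∃ (ι : Type u) (_ : Finite ι) (a : ι → K) (b : Module.Basis ι K (Via s.hom)),
      ∀ i, b i = toVia s.hom (t.hom (a i)) := by
  obtain ⟨b, hbs, hspan, hli⟩ := exists_linearIndependent K (Set.range (tVia s t))
  have hsp : ⊤ ≤ Submodule.span K (Set.range (Subtype.val : b → Via s.hom)) := by
    rw [Subtype.range_coe, hspan, span_range_tVia str s t hst heq hfin]
  let bb : Module.Basis b K (Via s.hom) := Module.Basis.mk hli hsp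
  have hmf : Module.Finite K (Via s.hom) := hfin
  refine ⟨b, Module.Finite.finite_basis bb, fun i => (hbs i.2).choose, bb, fun i => ?_⟩
  rw [Module.Basis.mk_apply]
  exact (hbs i.2).choose_spec.symm

include heq in
/-- Main algebraic output: `K` is finite free over the invariants and `K ⊗ K ≃ B`. -/
theorem exists_basis_inv_and_bijective (hfin : s.hom.Finite) :
    (∃ (ι : Type u) (_ : Finite ι), Nonempty (Module.Basis ι (inv s.hom t.hom) K)) ∧
      Function.Bijective (tensorToB s.hom t.hom) := by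
  obtain ⟨ι, hι, a, b, hb⟩ := exists_basis_data str s t hst heq hfin
  obtain ⟨e, he1, he2⟩ := exists_unit str s t hst heq
  obtain ⟨c, hc1, hc2⟩ := exists_comp str s t hst heq
  have hes : ∀ x, e.hom (s.hom x) = x := fun x => by
    have := congrArg (fun φ => φ.hom x) he1
    simpa using this
  have het : ∀ x, e.hom (t.hom x) = x := fun x => by
    have := congrArg (fun φ => φ.hom x) he2
    simpa using this
  have hct : ∀ x : K, c.hom (t.hom x) = toVia s.hom (t.hom x) ⊗ₜ[K] (1 : Via t.hom) := fun x => by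
    have := congrArg (fun φ => φ.hom x) hc1
    simp only [CommRingCat.hom_comp, RingHom.comp_apply] at this
    rw [this, p0_apply]
  have hcs : ∀ x : K, c.hom (s.hom x) = (1 : Via s.hom) ⊗ₜ[K] toVia t.hom (s.hom x) := fun x => by
    have := congrArg (fun φ => φ.hom x) hc2
    simp only [CommRingCat.hom_comp, RingHom.comp_apply] at this
    rw [this, p1_apply]
  exact ⟨⟨ι, hι, ⟨basisInv s.hom t.hom e.hom hes het c.hom hct hcs a b hb⟩⟩,
    tensorToB_bijective s.hom t.hom e.hom hes het c.hom hct hcs a b hb⟩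


/-- the invariants form a field -/
lemma isField_inv : IsField (inv s.hom t.hom) := by
  refine ⟨⟨0, 1, fun h => zero_ne_one (congrArg Subtype.val h)⟩, mul_comm, ?_⟩
  intro a ha
  have ha' : (a : K) ≠ 0 := fun h => ha (Subtype.ext h)
  have hmem : (a : K)⁻¹ ∈ inv s.hom t.hom := by
    change s.hom (a : K)⁻¹ = t.hom (a : K)⁻¹
    have h1 : s.hom (a : K) * s.hom (a : K)⁻¹ = 1 := by
      rw [← map_mul, mul_inv_cancel₀ ha', map_one]
    have h2 : s.hom (a : K) * t.hom (a : K)⁻¹ = 1 := by
      rw [a.2, ← map_mul, mul_inv_cancel₀ ha', map_one]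
    calc s.hom (a : K)⁻¹ = s.hom (a : K)⁻¹ * (s.hom (a : K) * t.hom (a : K)⁻¹) := by
          rw [h2, mul_one]
      _ = (s.hom (a : K) * s.hom (a : K)⁻¹) * t.hom (a : K)⁻¹ := by ring
      _ = t.hom (a : K)⁻¹ := by rw [h1, one_mul]
  exact ⟨⟨_, hmem⟩, Subtype.ext (mul_inv_cancel₀ ha')⟩

/-- The inclusion of the invariants. -/
def incl : CommRingCat.of (inv s.hom t.hom) ⟶ CommRingCat.of K :=
  CommRingCat.ofHom (inv s.hom t.hom).subtype

lemma incl_s_eq_incl_t : incl s t ≫ s = incl s t ≫ t := by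
  ext x
  exact x.2

include heq in
theorem isPushout_incl (hfin : s.hom.Finite) : IsPushout (incl s t) (incl s t) s t := by
  obtain ⟨-, hbij⟩ := exists_basis_inv_and_bijective str s t hst heq hfin
  letI := algInv s.hom t.hom
  let e : K ⊗[inv s.hom t.hom] K ≃+* B := RingEquiv.ofBijective (tensorToB s.hom t.hom) hbij
  have h0 := CommRingCat.isPushout_tensorProduct (inv s.hom t.hom) K K
  refine h0.of_iso (Iso.refl _) (Iso.refl _) (Iso.refl _) e.toCommRingCatIso ?_ ?_ ?_ ?_
  · rfl
  · rfl
  · ext x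
    change tensorToB s.hom t.hom (x ⊗ₜ 1) = s.hom x
    rw [tensorToB_tmul, map_one, mul_one]
  · ext x
    change tensorToB s.hom t.hom (1 ⊗ₜ x) = t.hom x
    rw [tensorToB_tmul, map_one, one_mul]

include heq in
theorem isPullback_Spec_incl (hfin : s.hom.Finite) :
    IsPullback (Spec.map t) (Spec.map s) (Spec.map (incl s t)) (Spec.map (incl s t)) :=
  (isPullback_SpecMap_of_isPushout _ _ _ _ (isPushout_incl str s t hst heq hfin)).flip


include heq in
theorem incl_props (hfin : s.hom.Finite) :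
    IsFinite (Spec.map (incl s t)) ∧ Flat (Spec.map (incl s t)) ∧
      Surjective (Spec.map (incl s t)) ∧ LocallyOfFinitePresentation (Spec.map (incl s t)) := by
  obtain ⟨⟨ι, hι, ⟨bC⟩⟩, -⟩ := exists_basis_inv_and_bijective str s t hst heq hfin
  letI : Field (inv s.hom t.hom) := (isField_inv s t).toField
  have hfinite : Module.Finite (inv s.hom t.hom) K := Module.Finite.of_basis bC
  have hfree : Module.Free (inv s.hom t.hom) K := Module.Free.of_basis bC
  have h1 : (incl s t).hom.Finite := hfinite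
  have h2 : (incl s t).hom.Flat := by
    change Module.Flat (inv s.hom t.hom) K
    infer_instance
  refine ⟨(IsFinite.SpecMap_iff _).2 h1, Flat.SpecMap_iff.2 h2, ?_, ?_⟩
  · refine ⟨fun x => ?_⟩
    have : Subsingleton (PrimeSpectrum (inv s.hom t.hom)) := inferInstance
    exact ⟨(⊥ : PrimeSpectrum K), Subsingleton.elim _ _⟩
  · rw [LocallyOfFinitePresentation.SpecMap_iff]
    change Algebra.FinitePresentation (inv s.hom t.hom) K
    have : Algebra.FiniteType (inv s.hom t.hom) K := inferInstance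
    exact Algebra.FinitePresentation.of_finiteType.1 this

include heq in
/-- The structure morphism descends to the quotient. -/
theorem exists_str' (hfin : s.hom.Finite) :
    ∃ str' : Spec (CommRingCat.of (inv s.hom t.hom)) ⟶ S, Spec.map (incl s t) ≫ str' = str := by
  obtain ⟨h1, h2, h3, h4⟩ := incl_props str s t hst heq hfin
  have hpb := isPullback_Spec_incl str s t hst heq hfin
  have : EffectiveEpi (Spec.map (incl s t)) := inferInstance
  have key : ∀ {Z : Scheme.{u}} (g₁ g₂ : Z ⟶ Spec (CommRingCat.of K)),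
      g₁ ≫ Spec.map (incl s t) = g₂ ≫ Spec.map (incl s t) → g₁ ≫ str = g₂ ≫ str := by
    intro Z g₁ g₂ h
    have e1 : hpb.lift g₁ g₂ h ≫ Spec.map t = g₁ := hpb.lift_fst _ _ _
    have e2 : hpb.lift g₁ g₂ h ≫ Spec.map s = g₂ := hpb.lift_snd _ _ _
    calc g₁ ≫ str = (hpb.lift g₁ g₂ h ≫ Spec.map t) ≫ str := by rw [e1]
      _ = (hpb.lift g₁ g₂ h ≫ Spec.map s) ≫ str := by rw [Category.assoc, hst, Category.assoc]
      _ = g₂ ≫ str := by rw [e2]
  exact ⟨EffectiveEpi.desc (Spec.map (incl s t)) str key, EffectiveEpi.fac _ _ key⟩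
  /-
  have e1 : hpb.lift g₁ g₂ h ≫ Spec.map t = g₁ := hpb.lift_fst _ _ _
  have e2 : hpb.lift g₁ g₂ h ≫ Spec.map s = g₂ := hpb.lift_snd _ _ _
  rw [← e1, ← e2, Category.assoc, Category.assoc, hst] -/

end G1


section G2

variable {S : Scheme.{u}}

/-- Equivalence relations transport along isomorphisms of the relation object. -/
lemma isEqvRel_of_iso {R R' U : Over S} {s t : R ⟶ U} (h : IsEqvRel s t) (j : R' ≅ R) :
    IsEqvRel (j.hom ≫ s) (j.hom ≫ t) where
  injective T r r' h1 h2 := by
    have := h.injective T (r ≫ j.hom) (r' ≫ j.hom) (by simpa using h1) (by simpa using h2)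
    exact (cancel_mono j.hom).1 this
  equivalence T := by
    have : (fun a b : T ⟶ U => ∃ r : T ⟶ R', r ≫ j.hom ≫ t = a ∧ r ≫ j.hom ≫ s = b) =
        (fun a b : T ⟶ U => ∃ r : T ⟶ R, r ≫ t = a ∧ r ≫ s = b) := by
      ext a b
      constructor
      · rintro ⟨r, h1, h2⟩
        exact ⟨r ≫ j.hom, by simpa using h1, by simpa using h2⟩
      · rintro ⟨r, h1, h2⟩
        exact ⟨r ≫ j.inv, by simpa using h1, by simpa using h2⟩
    rw [this]
    exact h.equivalence T

/-- **Quotient of the spectrum of a field by a finite equivalence relation.** -/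
theorem exists_quotient_field {K : Type u} [Field K] (str : Spec (CommRingCat.of K) ⟶ S)
    {R : Over S} (s t : R ⟶ Over.mk str) (h : IsEqvRel s t) [IsFinite s.left] :
    ∃ (k' : Type u) (_ : Field k') (str' : Spec (CommRingCat.of k') ⟶ S)
      (cm : Over.mk str ⟶ Over.mk str'),
      IsFinite cm.left ∧ Flat cm.left ∧ Surjective cm.left ∧ LocallyOfFinitePresentation cm.left ∧
        IsPullback t s cm cm := by
  have hU : IsAffine (Over.mk str).left := by
    change IsAffine (Spec (CommRingCat.of K)); infer_instance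
  have hR : IsAffine R.left := isAffine_of_isAffineHom s.left
  let B : CommRingCat.{u} := Γ(R.left, ⊤)
  let i : R.left ≅ Spec B := R.left.isoSpec
  let s₀ : CommRingCat.of K ⟶ B := Spec.preimage (i.inv ≫ s.left)
  let t₀ : CommRingCat.of K ⟶ B := Spec.preimage (i.inv ≫ t.left)
  have hs₀ : Spec.map s₀ = i.inv ≫ s.left := Spec.map_preimage _
  have ht₀ : Spec.map t₀ = i.inv ≫ t.left := Spec.map_preimage _
  have hst : Spec.map t₀ ≫ str = Spec.map s₀ ≫ str := by
    rw [hs₀, ht₀, Category.assoc, Category.assoc]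
    have h1 := Over.w s
    have h2 := Over.w t
    simp only [Over.mk_hom] at h1 h2
    rw [h1, h2]
  let j : RO str s₀ ≅ R := Over.isoMk i.symm (by
    change i.inv ≫ R.hom = Spec.map s₀ ≫ str
    rw [hs₀, Category.assoc]
    have h1 := Over.w s
    simp only [Over.mk_hom] at h1
    rw [h1])
  have hjs : j.hom ≫ s = sO str s₀ := by
    ext
    change i.inv ≫ s.left = Spec.map s₀
    rw [hs₀]
  have hjt : j.hom ≫ t = tO str s₀ t₀ hst := by
    ext
    change i.inv ≫ t.left = Spec.map t₀
    rw [ht₀]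
  have heq : IsEqvRel (sO str s₀) (tO str s₀ t₀ hst) := by
    rw [← hjs, ← hjt]
    exact isEqvRel_of_iso h j
  have hfin : s₀.hom.Finite := by
    rw [← IsFinite.SpecMap_iff, hs₀]
    infer_instance
  obtain ⟨h1, h2, h3, h4⟩ := incl_props str s₀ t₀ hst heq hfin
  obtain ⟨str', hstr'⟩ := exists_str' str s₀ t₀ hst heq hfin
  have hpb := isPullback_Spec_incl str s₀ t₀ hst heq hfin
  letI : Field (inv s₀.hom t₀.hom) := (isField_inv s₀ t₀).toField
  let cm : Over.mk str ⟶ Over.mk str' := Over.homMk (Spec.map (incl s₀ t₀)) hstr'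
  refine ⟨inv s₀.hom t₀.hom, inferInstance, str', cm, h1, h2, h3, h4, ?_⟩
  have hpb' : IsPullback t.left s.left (Spec.map (incl s₀ t₀)) (Spec.map (incl s₀ t₀)) := by
    refine IsPullback.of_iso hpb i.symm (Iso.refl _) (Iso.refl _) (Iso.refl _) ?_ ?_ ?_ ?_
    · simp [ht₀]
    · simp [hs₀]
    · simp
    · simp
  have hw : t ≫ cm = s ≫ cm := by
    ext
    exact hpb'.w
  exact IsPullback.of_map (Over.forget S) hw hpb'

end G2

end Groth.Agent.H3.FinQuot
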