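import Groth.Agent.Lib.Helper3.FinQuot.ChartQuot

set_option autoImplicit false
universe u

open CategoryTheory CategoryTheory.Limits AlgebraicGeometry TensorProduct
open AlgSp

namespace Groth.Agent.H3.FinQuot

open Groth.Agent.H5.AlgSp

variable {S : Scheme.{u}}

/-- **Restriction of a kernel pair to a saturated open.** If `R ⇉ U` is the kernel pair of
`p : h_U ⟶ X` and `U' ⊆ U`, `R' = s⁻¹(U') ⊆ R` are opens such that `t` maps `R'` into `U'`, then
`R' ⇉ U'` is the kernel pair of the restriction of `p` to `U'`. -/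
theorem isPullback_restrict_saturated {X : Sp S} {U R U' R' : Over S} (p : (yon S).obj U ⟶ X)
    (s t : R ⟶ U) (sq : IsPullback ((yon S).map t) ((yon S).map s) p p)
    (jU : U' ⟶ U) (jR : R' ⟶ R) [IsOpenImmersion jU.left] [IsOpenImmersion jR.left]
    (s' t' : R' ⟶ U') (hs : jR ≫ s = s' ≫ jU) (ht : jR ≫ t = t' ≫ jU)
    (hrange : ∀ r : ↥R.left, s.left r ∈ Set.range jU.left → r ∈ Set.range jR.left) :
    IsPullback ((yon S).map t') ((yon S).map s') ((yon S).map jU ≫ p) ((yon S).map jU ≫ p) := by
  have hmU : Mono jU := mono_of_mono_left jU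
  have hmR : Mono jR := mono_of_mono_left jR
  apply isPullback_of_yon
  · rw [← Category.assoc, ← Category.assoc, ← Functor.map_comp, ← Functor.map_comp, ← ht, ← hs,
      Functor.map_comp, Functor.map_comp, Category.assoc, Category.assoc, sq.w]
  · intro T x y hxy
    obtain ⟨g₁, rfl⟩ := (yon S).map_surjective x
    obtain ⟨g₂, rfl⟩ := (yon S).map_surjective y
    obtain ⟨ρ, hρ⟩ := (yon S).map_surjective (sq.lift ((yon S).map (g₁ ≫ jU)) ((yon S).map (g₂ ≫ jU))
      (by rw [Functor.map_comp, Functor.map_comp, Category.assoc, Category.assoc]; exact hxy))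
    have hρt : ρ ≫ t = g₁ ≫ jU := by
      apply (yon S).map_injective
      rw [Functor.map_comp, hρ, sq.lift_fst]
    have hρs : ρ ≫ s = g₂ ≫ jU := by
      apply (yon S).map_injective
      rw [Functor.map_comp, hρ, sq.lift_snd]
    have hsub : Set.range ρ.left ⊆ Set.range jR.left := by
      rintro _ ⟨τ, rfl⟩
      apply hrange
      have : s.left (ρ.left τ) = jU.left (g₂.left τ) := by
        rw [← Scheme.Hom.comp_apply, ← Scheme.Hom.comp_apply, ← Over.comp_left, ← Over.comp_left, hρs]
      rw [this]
      exact ⟨_, rfl⟩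
    let ρ'l : T.left ⟶ R'.left := IsOpenImmersion.lift jR.left ρ.left hsub
    have hρ'l : ρ'l ≫ jR.left = ρ.left := IsOpenImmersion.lift_fac _ _ _
    let ρ' : T ⟶ R' := Over.homMk ρ'l (by
      have h1 := Over.w jR
      have h2 := Over.w ρ
      rw [← h1, ← Category.assoc, hρ'l, h2])
    have hρ' : ρ' ≫ jR = ρ := by
      ext
      exact hρ'l
    refine ⟨(yon S).map ρ', ⟨?_, ?_⟩, ?_⟩
    · rw [← Functor.map_comp]
      congr 1
      rw [← cancel_mono jU, Category.assoc, ← ht, ← Category.assoc, hρ', hρt]
    · rw [← Functor.map_comp]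
      congr 1
      rw [← cancel_mono jU, Category.assoc, ← hs, ← Category.assoc, hρ', hρs]
    · rintro z ⟨hz1, hz2⟩
      obtain ⟨ζ, rfl⟩ := (yon S).map_surjective z
      congr 1
      rw [← Functor.map_comp] at hz1 hz2
      have hz1' := (yon S).map_injective hz1
      have hz2' := (yon S).map_injective hz2
      rw [← cancel_mono jR, hρ']
      apply (yon S).map_injective
      apply sq.hom_ext
      · rw [← Functor.map_comp, ← Functor.map_comp, Category.assoc, ht, ← Category.assoc, hz1', hρt]
      · rw [← Functor.map_comp, ← Functor.map_comp, Category.assoc, hs, ← Category.assoc, hz2', hρs]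

end Groth.Agent.H3.FinQuot
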